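import Cfsg.Agent.Lib.GW.Reduction
import Cfsg.Agent.Lib.Frobenius.UniqueSubgroup
import Cfsg.Agent.Lib.Basic

/-!
Consequences of the Gorenstein–Walter theorem: common lemmas.

The theorem itself enters as a hypothesis of the form `GWThm`.
-/

set_option autoImplicit false
set_option linter.unusedSectionVars false

namespace CfsgLib.GWConseq

open Cfsg CfsgLib.GW

universe u

/-- The Gorenstein–Walter theorem, as a proposition. -/
def GWThm : Prop :=
  ∀ (X : Type u) [Group X] [Finite X] [Group.IsPerfect X], GWDihedral X → GWModel (X ⧸ oddCore X)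

/-- The homomorphism from a generalised quaternion group to a dihedral group. -/
def quatDih (m : ℕ) : QuaternionGroup m →* DihedralGroup m :=
  MonoidHom.mk'
    (fun q => match q with
      | .a i => DihedralGroup.r (ZMod.castHom (dvd_mul_left m 2) (ZMod m) i)
      | .xa i => DihedralGroup.sr (ZMod.castHom (dvd_mul_left m 2) (ZMod m) i))
    (by
      rintro (i | i) (j | j)
      · simp only [QuaternionGroup.a_mul_a, DihedralGroup.r_mul_r, map_add]
      · simp only [QuaternionGroup.a_mul_xa, DihedralGroup.r_mul_sr, map_sub]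
      · simp only [QuaternionGroup.xa_mul_a, DihedralGroup.sr_mul_r, map_add]
      · simp only [QuaternionGroup.xa_mul_xa, DihedralGroup.sr_mul_sr, map_add, map_sub, map_natCast,
          ZMod.natCast_self, zero_add])

theorem quatDih_surjective (m : ℕ) : Function.Surjective (quatDih m) := by
  intro d
  rcases d with i | i
  · obtain ⟨j, hj⟩ := ZMod.castHom_surjective (dvd_mul_left m 2) i
    exact ⟨.a j, congrArg DihedralGroup.r hj⟩
  · obtain ⟨j, hj⟩ := ZMod.castHom_surjective (dvd_mul_left m 2) i
    exact ⟨.xa j, congrArg DihedralGroup.sr hj⟩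

theorem card_ker_quatDih (m : ℕ) [NeZero m] : Nat.card (quatDih m).ker = 2 := by
  have h := (quatDih m).ker.card_mul_index
  rw [Subgroup.index_ker, MonoidHom.range_eq_top.mpr (quatDih_surjective m), Subgroup.card_top,
    DihedralGroup.nat_card, Nat.card_eq_fintype_card (α := QuaternionGroup m), QuaternionGroup.card] at h
  have := NeZero.pos m
  nlinarith

variable {X : Type u} [Group X]

theorem rank_subgroup {p k : ℕ} (h : PRankLE p k X) (S : Subgroup X) : PRankLE p k S := fun A hA hexp => by
  haveI := hA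
  have := h (A.map S.subtype) inferInstance (by
    rintro _ ⟨a, ha, rfl⟩
    rw [← map_pow, hexp a ha, map_one])
  rwa [Nat.card_congr (A.equivMapOfInjective S.subtype S.subtype_injective).toEquiv.symm] at this

variable [Finite X]

/-- Without a four-group, a central involution is the only involution. -/
theorem invol_cases (h : PRankLE 2 1 X) {c : X} (hzc : c ∈ Subgroup.center X) (hz : orderOf c = 2) (x : X)
    (hx : x * x = 1) : x = 1 ∨ x = c := by
  classical
  have hcc : c * c = 1 := by rw [← pow_two, ← hz]; exact pow_orderOf_eq_one c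
  have hc1 : c ≠ 1 := fun e => by rw [e, orderOf_one] at hz; omega
  by_contra hne
  push Not at hne
  obtain ⟨hx1, hxc⟩ := hne
  have hcom : x * c = c * x := Subgroup.mem_center_iff.mp hzc x
  have hyy : c * x * (c * x) = 1 := by
    rw [mul_assoc, ← mul_assoc x, hcom, mul_assoc, hx, mul_one, hcc]
  let A : Subgroup X :=
    { carrier := {g | g = 1 ∨ g = c ∨ g = x ∨ g = c * x}
      one_mem' := Or.inl rfl
      mul_mem' := by
        intro a b ha hb
        have hxcx : x * (c * x) = c := by rw [← mul_assoc, hcom, mul_assoc, hx, mul_one]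
        have hccx : c * (c * x) = x := by rw [← mul_assoc, hcc, one_mul]
        have hcxc : c * x * c = x := by rw [mul_assoc, hcom, hccx]
        have hcxx : c * x * x = c := by rw [mul_assoc, hx, mul_one]
        simp only [Set.mem_setOf_eq] at ha hb ⊢
        rcases ha with rfl | rfl | rfl | rfl <;> rcases hb with rfl | rfl | rfl | rfl <;>
          simp only [one_mul, mul_one, hcc, hx, hcom, hxcx, hccx, hcxc, hcxx, hyy, true_or, or_true]
      inv_mem' := by
        intro a ha
        simp only [Set.mem_setOf_eq] at ha ⊢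
        rcases ha with rfl | rfl | rfl | rfl <;>
          simp only [inv_one, inv_eq_of_mul_eq_one_right hcc, inv_eq_of_mul_eq_one_right hx,
            inv_eq_of_mul_eq_one_right hyy, true_or, or_true] }
  have hsq : ∀ a ∈ A, a ^ 2 = 1 := by
    intro a ha
    rw [pow_two]
    rcases ha with rfl | rfl | rfl | rfl
    · rw [mul_one]
    · exact hcc
    · exact hx
    · exact hyy
  have hcA : IsMulCommutative A := ⟨⟨fun a b => Subtype.ext (by
    have ha : (a : X)⁻¹ = a := inv_eq_of_mul_eq_one_right (by rw [← pow_two]; exact hsq a a.2)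
    have hb : (b : X)⁻¹ = b := inv_eq_of_mul_eq_one_right (by rw [← pow_two]; exact hsq b b.2)
    have hab : ((a : X) * b)⁻¹ = a * b :=
      inv_eq_of_mul_eq_one_right (by rw [← pow_two]; exact hsq _ (A.mul_mem a.2 b.2))
    show (a : X) * b = b * a
    rw [← hab, _root_.mul_inv_rev, ha, hb])⟩⟩
  have hle := h A hcA hsq
  have h3 : ({1, c, x} : Finset X).card ≤ Nat.card A := by
    rw [show Nat.card A = Set.ncard (A : Set X) from (Nat.card_coe_set_eq _), ← Set.ncard_coe_finset]
    refine Set.ncard_le_ncard ?_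
    intro a ha
    simp only [Finset.coe_insert, Finset.coe_singleton, Set.mem_insert_iff, Set.mem_singleton_iff] at ha
    rcases ha with rfl | rfl | rfl
    · exact Or.inl rfl
    · exact Or.inr (Or.inl rfl)
    · exact Or.inr (Or.inr (Or.inl rfl))
  rw [Finset.card_insert_of_notMem (by
      simp only [Finset.mem_insert, Finset.mem_singleton, not_or]
      exact ⟨hc1.symm, hx1.symm⟩),
    Finset.card_pair hxc.symm] at h3
  omega

/-- A 2-group without a four-group has only one involution. -/
theorem uniqSub_of_rank (hX : IsPGroup 2 X) (h : PRankLE 2 1 X) : CfsgLib.Frob.UniqSub 2 X := by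
  haveI : Fact (Nat.Prime 2) := ⟨Nat.prime_two⟩
  intro H K hH hK
  haveI : Nontrivial X := by
    obtain ⟨a, b, hab⟩ := Finite.one_lt_card_iff_nontrivial.mp (show 1 < Nat.card H by omega)
    exact ⟨⟨a, b, fun e => hab (Subtype.ext e)⟩⟩
  haveI := hX.center_nontrivial
  obtain ⟨z, hz⟩ := exists_prime_orderOf_dvd_card' (G := Subgroup.center X) 2 (by
    obtain ⟨k, hk⟩ := IsPGroup.iff_card.mp (hX.to_subgroup (Subgroup.center X))
    rcases k with _ | k
    · exact absurd hk (by rw [pow_zero]; exact Finite.one_lt_card.ne')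
    · exact hk ▸ dvd_pow_self 2 k.succ_ne_zero)
  rw [← Subgroup.orderOf_coe] at hz
  have key := invol_cases h z.2 hz
  set c : X := (z : X)
  have hform : ∀ L : Subgroup X, Nat.card L = 2 → L = Subgroup.zpowers c := by
    intro L hL
    refine Subgroup.eq_of_le_of_card_ge (fun x hx => ?_) (by rw [hL, Nat.card_zpowers, hz])
    have h2 : x * x = 1 := by
      have : (⟨x, hx⟩ : L) ^ 2 = 1 := hL ▸ pow_card_eq_one'
      rw [← pow_two]
      exact congrArg Subtype.val this
    rcases key x h2 with rfl | rfl
    · exact one_mem _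
    · exact Subgroup.mem_zpowers c
  rw [hform H hH, hform K hK]

/-- The Sylow 2-subgroups of a group without a four-group. -/
theorem sylow_shape (h : PRankLE 2 1 X) (S : Sylow 2 X) :
    IsCyclic S ∨ ∃ m, 1 ≤ m ∧ Nonempty ((S : Subgroup X) ≃* QuaternionGroup (2 ^ m)) := by
  haveI : Fact (Nat.Prime 2) := ⟨Nat.prime_two⟩
  rcases CfsgLib.Frob.cyclic_or_quaternion_two S.2 (uniqSub_of_rank S.2 (rank_subgroup h _)) with hc | ⟨m, ⟨e⟩⟩
  · exact Or.inl hc
  · rcases Nat.eq_zero_or_pos m with rfl | hm
    · haveI : IsCyclic (QuaternionGroup (2 ^ 0)) := by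
        rw [pow_zero]
        refine isCyclic_of_orderOf_eq_card (QuaternionGroup.xa 0 : QuaternionGroup 1) ?_
        rw [QuaternionGroup.orderOf_xa, Nat.card_eq_fintype_card, QuaternionGroup.card, mul_one]
      exact Or.inl (isCyclic_of_surjective e.symm.toMonoidHom e.symm.surjective)
    · exact Or.inr ⟨m, hm, ⟨e⟩⟩

/-- Sylow 2-subgroups survive in the quotient by an odd normal subgroup. -/
theorem sylow_quotient_odd (N : Subgroup X) [N.Normal] (hN : Odd (Nat.card N)) (S : Sylow 2 X) :
    Nonempty ((S : Subgroup X) ≃* (S.mapSurjective (QuotientGroup.mk'_surjective N) : Subgroup (X ⧸ N))) := by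
  haveI : Fact (Nat.Prime 2) := ⟨Nat.prime_two⟩
  set f := QuotientGroup.mk' N
  have hinj : Function.Injective (f.comp (S : Subgroup X).subtype) := by
    refine (injective_iff_map_eq_one _).mpr fun x hx => ?_
    have hxN : (x : X) ∈ N := (QuotientGroup.eq_one_iff _).mp hx
    obtain ⟨k, hk⟩ := S.2 x
    have h1 : orderOf (x : X) ∣ 2 ^ k := orderOf_dvd_of_pow_eq_one (congrArg Subtype.val hk)
    have h2 := Subgroup.orderOf_dvd_natCard N hxN
    have h3 := Nat.eq_one_of_dvd_coprimes (Nat.Coprime.pow_left k (Nat.coprime_two_left.mpr hN)) h1 h2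
    exact Subtype.ext (orderOf_eq_one_iff.mp h3)
  exact ⟨(MonoidHom.ofInjective hinj).trans (MulEquiv.subgroupCongr (by
    rw [MonoidHom.range_comp, Subgroup.range_subtype]; rfl))⟩

/-- Factoring a central involution out of quaternion Sylow 2-subgroups gives dihedral ones. -/
theorem dihedral_quotient (Z : Subgroup X) [Z.Normal] (hZ : Nat.card Z = 2) (S : Sylow 2 X) {m : ℕ} (hm : 1 ≤ m)
    (hu : CfsgLib.Frob.UniqSub 2 (S : Subgroup X)) (e : (S : Subgroup X) ≃* QuaternionGroup (2 ^ m)) :
    GWDihedral (X ⧸ Z) := by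
  haveI : Fact (Nat.Prime 2) := ⟨Nat.prime_two⟩
  haveI : NeZero (2 ^ m) := ⟨pow_ne_zero _ two_ne_zero⟩
  have hZS : Z ≤ (S : Subgroup X) := by
    obtain ⟨T, hT⟩ := (IsPGroup.of_card (p := 2) (n := 1) (G := Z) (by rw [hZ, pow_one])).exists_le_sylow
    obtain ⟨g, hg⟩ := MulAction.exists_smul_eq X T S
    intro z hz
    rw [← hg, Sylow.coe_subgroup_smul, Subgroup.mem_pointwise_smul_iff_inv_smul_mem]
    refine hT ?_
    simpa [MulAut.conj_apply, MulAut.smul_def] using (inferInstance : Z.Normal).conj_mem z hz g⁻¹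
  set f : (S : Subgroup X) →* X ⧸ Z := (QuotientGroup.mk' Z).comp (S : Subgroup X).subtype with hf
  set g := (quatDih (2 ^ m)).comp e.toMonoidHom with hgdef
  have hgs : Function.Surjective g := (quatDih_surjective _).comp e.surjective
  have hk2 : Nat.card g.ker = 2 := by
    rw [hgdef, ← MonoidHom.comap_ker]
    refine (Nat.card_congr ((Subgroup.equivMapOfInjective _ e.toMonoidHom e.injective).trans
      (MulEquiv.subgroupCongr (Subgroup.map_comap_eq_self_of_surjective e.surjective _))).toEquiv).trans ?_
    exact card_ker_quatDih _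
  have hk1 : Nat.card f.ker = 2 := by
    rw [hf, ← MonoidHom.comap_ker, QuotientGroup.ker_mk']
    exact (Nat.card_congr (Subgroup.subgroupOfEquivOfLe hZS).toEquiv).trans hZ
  have hker : f.ker = g.ker := hu _ _ hk1 hk2
  refine ⟨S.mapSurjective (QuotientGroup.mk'_surjective Z), 2 ^ m,
    le_of_eq_of_le (pow_one 2).symm (Nat.pow_le_pow_right (by norm_num) hm), ⟨?_⟩⟩
  exact ((MulEquiv.subgroupCongr (show (S.mapSurjective (QuotientGroup.mk'_surjective Z) : Subgroup (X ⧸ Z)) =
        f.range by rw [hf, MonoidHom.range_comp, Subgroup.range_subtype]; rfl)).trans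
    (QuotientGroup.quotientKerEquivRange f).symm).trans
    ((QuotientGroup.quotientMulEquivOfEq hker).trans (QuotientGroup.quotientKerEquivOfSurjective g hgs))

/-- The quotient by a central subgroup of order two of a group with trivial core has trivial core. -/
theorem core_quotient_central (hO : oddCore X = ⊥) (Z : Subgroup X) [Z.Normal] (hZ : Nat.card Z = 2)
    (hZc : Z ≤ Subgroup.center X) : oddCore (X ⧸ Z) = ⊥ := by
  classical
  haveI : Fact (Nat.Prime 2) := ⟨Nat.prime_two⟩
  set N := oddCore (X ⧸ Z)
  have hN : Odd (Nat.card N) := CfsgLib.odd_card_oddCore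
  set M := N.comap (QuotientGroup.mk' Z) with hM
  have hZM : Z ≤ M := fun z hz => by
    rw [hM, Subgroup.mem_comap, QuotientGroup.mk'_apply, (QuotientGroup.eq_one_iff z).mpr hz]
    exact one_mem _
  have hidx : (Z.subgroupOf M).index = Nat.card N := by
    change Z.relIndex M = _
    have h1 : (QuotientGroup.mk' Z).ker.relIndex M = Nat.card (M.map (QuotientGroup.mk' Z)) :=
      Subgroup.relIndex_ker _ _
    rw [QuotientGroup.ker_mk'] at h1
    rw [h1, Subgroup.map_comap_eq_self_of_surjective (QuotientGroup.mk'_surjective Z)]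
  have hcard : Nat.card (Z.subgroupOf M) = 2 := by rw [Nat.card_congr (Subgroup.subgroupOfEquivOfLe hZM).toEquiv, hZ]
  obtain ⟨K, hK⟩ := Subgroup.exists_right_complement'_of_coprime (N := Z.subgroupOf M)
    (by rw [hcard, hidx]; exact Nat.coprime_two_left.mpr hN)
  have hKc : Nat.card K = Nat.card N := by
    rw [← hidx]
    exact hK.symm.index_eq_card.symm
  have hodd : ∀ y : M, y ^ Nat.card N = 1 → y ∈ K := by
    intro y hy
    obtain ⟨⟨a, b⟩, rfl : (a : M) * b = y⟩ := hK.2 y
    have hbK : (b : M) ^ Nat.card N = 1 := by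
      rw [← hKc]
      exact congrArg Subtype.val (pow_card_eq_one' (x := b))
    have hac : Commute (a : M) b :=
      Subtype.ext (Subgroup.mem_center_iff.mp (hZc a.2) (b : M)).symm
    rw [hac.mul_pow, hbK, mul_one] at hy
    have ha2 : (a : M) ^ 2 = 1 := by
      rw [← hcard]
      exact congrArg Subtype.val (pow_card_eq_one' (x := a))
    obtain ⟨j, hj⟩ := hN
    rw [hj, pow_succ, pow_mul, ha2, one_pow, one_mul] at hy
    rw [hy, one_mul]
    exact b.2
  haveI : (K.map M.subtype).Normal := ⟨by
    rintro _ ⟨k, hk, rfl⟩ x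
    have hxM : x * (k : X) * x⁻¹ ∈ M := ((inferInstance : N.Normal).comap _).conj_mem _ k.2 x
    refine ⟨⟨_, hxM⟩, hodd _ (Subtype.ext ?_), rfl⟩
    have hkK : (k : X) ^ Nat.card N = 1 := by
      rw [← hKc]
      exact congrArg (fun t : K => ((t : M) : X)) (pow_card_eq_one' (x := (⟨k, hk⟩ : K)))
    show (x * (k : X) * x⁻¹) ^ Nat.card N = 1
    rw [conj_pow, hkK, mul_one, mul_inv_cancel]⟩
  have hbot : K.map M.subtype = ⊥ := le_bot_iff.mp (hO ▸ CfsgLib.le_oddCore (by
    rw [Nat.card_congr (K.equivMapOfInjective M.subtype M.subtype_injective).toEquiv.symm, hKc]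
    exact hN))
  have h1 : Nat.card N = 1 := by
    rw [← hKc, Nat.card_congr (K.equivMapOfInjective M.subtype M.subtype_injective).toEquiv, hbot, Subgroup.card_bot]
  exact Subgroup.card_eq_one.mp h1

/-- The model conclusion for a group with trivial core. -/
theorem GWThm.model (hGW : GWThm.{u}) [Group.IsPerfect X] (hX : GWDihedral X) (hO : oddCore X = ⊥) : GWModel X :=
  GWModel.of_equiv (QuotientGroup.quotientBot.symm.trans (QuotientGroup.quotientMulEquivOfEq hO.symm)) (hGW X hX)

end CfsgLib.GWConseq
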