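import Mathlib

/-!
The two four-groups in a Sylow 2-subgroup of the alternating group of degree seven are not exchanged by any
automorphism fixing the cyclic subgroup of order four pointwise.
-/

set_option autoImplicit false
set_option maxHeartbeats 200000
set_option linter.unusedSectionVars false

namespace CfsgLib.GWConseq.A7

open Equiv

abbrev A7 := alternatingGroup (Fin 7)

def rot : Perm (Fin 7) := c[0, 1, 2, 3] * swap 4 5
def refl : Perm (Fin 7) := swap 0 2 * swap 4 5
def three : Perm (Fin 7) := c[4, 5, 6]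

def dFun : DihedralGroup 4 → Perm (Fin 7)
  | .r i => rot ^ i.val
  | .sr i => refl * rot ^ i.val

theorem dFun_mul : ∀ a b, dFun (a * b) = dFun a * dFun b := by decide +kernel

theorem dFun_inj : ∀ a, dFun a = 1 → a = 1 := by decide +kernel

theorem dFun_sign : ∀ a, Perm.sign (dFun a) = 1 := by decide +kernel

theorem dFun_even (a : DihedralGroup 4) : dFun a ∈ alternatingGroup (Fin 7) :=
  Perm.mem_alternatingGroup.mpr (dFun_sign a)

theorem three_even : three ∈ alternatingGroup (Fin 7) := Perm.mem_alternatingGroup.mpr (by decide +kernel)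

def dHom : DihedralGroup 4 →* A7 where
  toFun a := ⟨dFun a, dFun_even a⟩
  map_one' := Subtype.ext (by decide +kernel)
  map_mul' a b := Subtype.ext (dFun_mul a b)

theorem dHom_injective : Function.Injective dHom :=
  (injective_iff_map_eq_one _).mpr fun a h => dFun_inj a (congrArg Subtype.val h)

/-- An element of order three commutes with the image of `w` and with the centre. -/
def Good (z w : A7) : Prop := ∃ g : A7, g ≠ 1 ∧ g ^ 3 = 1 ∧ g * z = z * g ∧ g * w = w * g

theorem good_odd : Good (dHom (.r 2)) (dHom (.sr 1)) ∧ Good (dHom (.r 2)) (dHom (.sr 3)) := by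
  have h1 : three ≠ 1 := by decide +kernel
  have h3 : three ^ 3 = 1 := by decide +kernel
  have hz : three * dFun (.r 2) = dFun (.r 2) * three := by decide +kernel
  have hw1 : three * dFun (.sr 1) = dFun (.sr 1) * three := by decide +kernel
  have hw3 : three * dFun (.sr 3) = dFun (.sr 3) * three := by decide +kernel
  exact ⟨⟨⟨three, three_even⟩, fun h => h1 (congrArg Subtype.val h), Subtype.ext h3, Subtype.ext hz, Subtype.ext hw1⟩,
    ⟨⟨three, three_even⟩, fun h => h1 (congrArg Subtype.val h), Subtype.ext h3, Subtype.ext hz, Subtype.ext hw3⟩⟩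

set_option maxRecDepth 100000 in
theorem profile_check :
    ∀ w ∈ ([dFun (.sr 0), dFun (.sr 2)] : List (Perm (Fin 7))), ∀ x y y' : Fin 7, y ≠ x → y' ≠ y →
      (dFun (.r 2) x = x ↔ dFun (.r 2) y = y) → (w x = x ↔ w y = y) →
      (dFun (.r 2) y = y ↔ dFun (.r 2) y' = y') → (w y = y ↔ w y' = y') → y' = x := by
  decide +kernel

theorem perm_check {g w : Perm (Fin 7)} (hw : w ∈ ([dFun (.sr 0), dFun (.sr 2)] : List (Perm (Fin 7))))
    (hz : g * dFun (.r 2) = dFun (.r 2) * g) (h3 : g ^ 3 = 1) (hgw : g * w = w * g) : g = 1 := by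
  have key : ∀ u : Perm (Fin 7), g * u = u * g → ∀ x, u x = x ↔ u (g x) = g x := fun u hu x => by
    have h : g (u x) = u (g x) := congrArg (fun e : Perm (Fin 7) => e x) hu
    constructor
    · intro hx
      rw [← h, hx]
    · intro hx
      exact g.injective (h.trans hx)
  refine Equiv.ext fun x => ?_
  show g x = x
  by_contra hne
  have hne' : g (g x) ≠ g x := fun e => hne (g.injective e)
  have hback : g (g x) = x := profile_check w hw x (g x) (g (g x)) hne hne' (key _ hz x) (key _ hgw x)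
    (key _ hz (g x)) (key _ hgw (g x))
  have h3x : g (g (g x)) = x := congrArg (fun e : Perm (Fin 7) => e x) h3
  rw [hback] at h3x
  exact hne h3x

theorem good_even : ¬ Good (dHom (.r 2)) (dHom (.sr 0)) ∧ ¬ Good (dHom (.r 2)) (dHom (.sr 2)) := by
  constructor <;> rintro ⟨g, hg1, hg3, hgz, hgw⟩ <;>
    refine hg1 (Subtype.ext (perm_check ?_ (congrArg Subtype.val hgz) (congrArg Subtype.val hg3)
      (congrArg Subtype.val hgw)))
  · exact List.mem_cons_self
  · exact List.mem_cons_of_mem _ List.mem_cons_self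

theorem good_iff (i : ZMod 4) : Good (dHom (.r 2)) (dHom (.sr i)) ↔ i = 1 ∨ i = 3 := by
  rcases (show ∀ i : ZMod 4, i = 0 ∨ i = 1 ∨ i = 2 ∨ i = 3 by decide) i with rfl | rfl | rfl | rfl
  · exact iff_of_false good_even.1 (by decide)
  · exact iff_of_true good_odd.1 (Or.inl rfl)
  · exact iff_of_false good_even.2 (by decide)
  · exact iff_of_true good_odd.2 (Or.inr rfl)

theorem good_map (α : MulAut A7) {z w : A7} (h : Good z w) : Good (α z) (α w) := by
  obtain ⟨g, h1, h2, h3, h4⟩ := h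
  exact ⟨α g, fun e => h1 (α.map_eq_one_iff.mp e), by rw [← map_pow, h2, map_one],
    by rw [← map_mul, ← map_mul, h3], by rw [← map_mul, ← map_mul, h4]⟩

theorem good_congr (α : MulAut A7) (z w : A7) : Good (α z) (α w) ↔ Good z w :=
  ⟨fun h => by simpa using good_map α.symm h, good_map α⟩

theorem dihedral_shape : ∀ a b : DihedralGroup 4, a ^ 4 = 1 → a ^ 2 ≠ 1 → b ^ 2 = 1 → b * a * b⁻¹ = a⁻¹ →
    a ^ 2 = .r 2 ∧ ∃ i j : ZMod 4, b = .sr i ∧ b * a = .sr j ∧ ((i = 1 ∨ i = 3) ↔ ¬ (j = 1 ∨ j = 3)) := by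
  decide +kernel

theorem card_two_part : (Nat.card A7).factorization 2 = 3 := by
  rw [nat_card_alternatingGroup, Nat.card_eq_fintype_card, Fintype.card_fin]
  norm_num [Nat.factorial]
  rw [show (2520 : ℕ) = 2 ^ 3 * 315 by norm_num, Nat.factorization_mul (by norm_num) (by norm_num),
    Nat.Prime.factorization_pow Nat.prime_two]
  simp [Nat.factorization_eq_zero_iff]

/-- No automorphism fixes a rotation and exchanges the two classes of reflections. -/
theorem no_swap (φ : DihedralGroup 4 →* A7) (hφ : Function.Injective φ) (α : MulAut A7)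
    (hr : α (φ (.r 1)) = φ (.r 1)) {i : ZMod 4} (hi : i = 1 ∨ i = 3) (hs : α (φ (.sr 0)) = φ (.sr i)) : False := by
  haveI : Fact (Nat.Prime 2) := ⟨Nat.prime_two⟩
  have hcard : ∀ ψ : DihedralGroup 4 →* A7, Function.Injective ψ → Nat.card ψ.range = 2 ^ (Nat.card A7).factorization 2 :=
    fun ψ hψ => by
      rw [← Nat.card_congr (MonoidHom.ofInjective hψ).toEquiv, DihedralGroup.nat_card, card_two_part]
      rfl
  obtain ⟨c, hc⟩ := MulAction.exists_smul_eq A7 (Sylow.ofCard _ (hcard φ hφ)) (Sylow.ofCard _ (hcard dHom dHom_injective))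
  have hmap : ∀ d, MulAut.conj c (φ d) ∈ dHom.range := fun d => by
    have h := congrArg Sylow.toSubgroup hc
    rw [Sylow.coe_subgroup_smul, Sylow.coe_ofCard, Sylow.coe_ofCard] at h
    rw [← h]
    exact ⟨φ d, ⟨d, rfl⟩, rfl⟩
  choose ψ hψ using hmap
  have hψm : ∀ a b, ψ (a * b) = ψ a * ψ b := fun a b => dHom_injective (by
    rw [map_mul, hψ, hψ, hψ, map_mul, map_mul])
  have hψinj : ∀ a b, ψ a = ψ b → a = b := fun a b h => hφ ((MulAut.conj c).injective (by rw [← hψ, ← hψ, h]))
  let Ψ : DihedralGroup 4 →* DihedralGroup 4 := MonoidHom.mk' ψ hψm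
  have hΨ : ∀ d, dHom (Ψ d) = MulAut.conj c (φ d) := hψ
  have hΨinj : Function.Injective Ψ := fun a b h => hψinj a b h
  have h4 : (Ψ (.r 1)) ^ 4 = 1 := by
    rw [← map_pow, show (DihedralGroup.r 1 : DihedralGroup 4) ^ 4 = 1 by decide, map_one]
  have h2 : (Ψ (.r 1)) ^ 2 ≠ 1 := fun h => by
    rw [← map_pow, ← map_one Ψ] at h
    exact absurd (hΨinj h) (by decide)
  have hb2 : (Ψ (.sr 0)) ^ 2 = 1 := by
    rw [← map_pow, show (DihedralGroup.sr 0 : DihedralGroup 4) ^ 2 = 1 by decide, map_one]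
  have hba : Ψ (.sr 0) * Ψ (.r 1) * (Ψ (.sr 0))⁻¹ = (Ψ (.r 1))⁻¹ := by
    rw [← map_inv, ← map_inv, ← map_mul, ← map_mul]
    exact congrArg Ψ (by decide)
  obtain ⟨hz, u, v, hu, hv, huv⟩ := dihedral_shape _ _ h4 h2 hb2 hba
  set β : MulAut A7 := MulAut.conj c * α * (MulAut.conj c)⁻¹ with hβ
  have hβd : ∀ d e, α (φ d) = φ e → β (dHom (Ψ d)) = dHom (Ψ e) := fun d e h => by
    rw [hΨ, hΨ, hβ, MulAut.mul_apply, MulAut.mul_apply, MulAut.inv_apply_self, h]
  have hβz : β (dHom (.r 2)) = dHom (.r 2) := by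
    rw [← hz, map_pow, map_pow, hβd _ _ hr]
  have hβs : β (dHom (.sr u)) = dHom (Ψ (.sr i)) := by rw [← hu, hβd _ _ hs]
  have hgood := good_congr β (dHom (.r 2)) (dHom (.sr u))
  rw [hβz, hβs, good_iff u] at hgood
  rcases hi with rfl | rfl
  · have e : Ψ (.sr 1) = .sr v := by
      rw [← hv, ← map_mul]
      exact congrArg Ψ (by decide)
    rw [e, good_iff v] at hgood
    tauto
  · have e : Ψ (.sr 3) = .sr (v + 2) := by
      have h : (DihedralGroup.sr 3 : DihedralGroup 4) = .sr 0 * .r 1 * .r 1 ^ 2 := by decide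
      rw [h, map_mul, map_mul, map_pow, hv, hz, DihedralGroup.sr_mul_r]
    rw [e, good_iff (v + 2)] at hgood
    have : ∀ v : ZMod 4, (v + 2 = 1 ∨ v + 2 = 3) ↔ (v = 1 ∨ v = 3) := by decide
    rw [this] at hgood
    tauto

end CfsgLib.GWConseq.A7
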