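import Cfsg.Agent.Lib.QuasiDihedral
import Cfsg.Agent.Lib.Wreathed
import Mathlib.GroupTheory.SpecificGroups.Quaternion

/-!
Quaternion subgroups of order sixteen in quasi-dihedral and wreathed 2-groups.
-/

set_option autoImplicit false
set_option linter.unusedSectionVars false

namespace CfsgLib.GWConseq

variable {S : Type*} [Group S] [Finite S]

theorem qd_shift (d : CfsgLib.QD.Data S) {a x : S} (ha : orderOf a = 8) (hxa : x * a * x⁻¹ = a⁻¹) :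
    ∃ u : S, u * a * u⁻¹ = a ∧ u * x * u⁻¹ = x * a := by
  have ha4 : a ^ 4 ≠ 1 := fun h => by
    have := Nat.le_of_dvd (by norm_num) (orderOf_dvd_of_pow_eq_one h)
    omega
  have ha8 : a ^ 8 = 1 := ha ▸ pow_orderOf_eq_one a
  obtain ⟨i, rfl⟩ : ∃ i : ℤ, a = d.x ^ i := by
    obtain ⟨i, h | h⟩ := CfsgLib.QD.cases_elem d a
    · exact ⟨i, h⟩
    · exfalso
      apply ha4
      rw [h, show (4 : ℕ) = 2 * 2 from rfl, pow_mul, sq (_ * d.y), CfsgLib.QD.xy_mul_self, sq, ← zpow_add,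
        CfsgLib.QD.zpow_eq_one_iff]
      exact ⟨i, by ring⟩
  rw [← zpow_natCast, ← zpow_mul] at ha4 ha8
  rw [CfsgLib.QD.zpow_eq_one_iff] at ha8
  rw [Ne, CfsgLib.QD.zpow_eq_one_iff] at ha4
  have hai : d.x ^ i * d.x ^ i ≠ 1 := fun h => by
    rw [← zpow_add, CfsgLib.QD.zpow_eq_one_iff] at h
    obtain ⟨k, hk⟩ := h
    exact ha4 ⟨2 * k, by push_cast; linear_combination 2 * hk⟩
  obtain ⟨j, rfl⟩ : ∃ j : ℤ, x = d.x ^ j * d.y := by
    obtain ⟨j, h | h⟩ := CfsgLib.QD.cases_elem d x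
    · exfalso
      apply hai
      rw [h, ((Commute.refl d.x).zpow_zpow j i).eq, mul_inv_cancel_right] at hxa
      exact eq_inv_iff_mul_eq_one.mp hxa
    · exact ⟨j, h⟩
  obtain ⟨o, hio⟩ : (d.M : ℤ) ∣ i := by
    obtain ⟨k, hk⟩ := ha8
    exact ⟨k, by push_cast at hk; linarith⟩
  obtain ⟨M', hM'⟩ : ∃ M' : ℤ, (d.M : ℤ) * o = 2 * M' := by
    have h := hxa
    rw [CfsgLib.QD.xy_mul_zpow, _root_.mul_inv_rev, CfsgLib.QD.yinv, mul_assoc, ← mul_assoc d.y, CfsgLib.QD.hyy,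
      one_mul, ← zpow_neg, ← zpow_add, ← zpow_neg, CfsgLib.QD.zpow_eq_iff] at h
    obtain ⟨k, hk⟩ := h
    refine ⟨-k, ?_⟩
    have hk' : (d.M : ℤ) * ((d.M : ℤ) * o + 2 * k) = 0 := by
      rw [hio] at hk
      have hk4 : 4 * ((d.M : ℤ) * ((d.M : ℤ) * o + 2 * k)) = 0 := by linear_combination -hk
      linarith
    rcases mul_eq_zero.mp hk' with h0 | h0
    · exact absurd h0 (by exact_mod_cast d.hM.ne')
    · linarith
  refine ⟨d.x ^ ((1 - 2 * (d.M : ℤ)) * (4 * (d.M : ℤ) - 1) * M'), ?_, ?_⟩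
  · rw [((Commute.refl d.x).zpow_zpow _ i).eq, mul_inv_cancel_right]
  · rw [CfsgLib.QD.conj_xy, CfsgLib.QD.xy_mul_zpow, CfsgLib.QD.xy_eq_iff, hio, hM']
    exact ⟨-((4 * (d.M : ℤ) - 1) * ((d.M : ℤ) - 1) * M'), by ring⟩

theorem wr_shift (d : CfsgLib.Wr.Data S) {a x : S} (ha : orderOf a = 8) (hxa : x * a * x⁻¹ = a⁻¹) :
    ∃ u : S, u * a * u⁻¹ = a ∧ u * x * u⁻¹ = x * a := by
  have ha4 : a ^ 4 ≠ 1 := fun h => by
    have := Nat.le_of_dvd (by norm_num) (orderOf_dvd_of_pow_eq_one h)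
    omega
  obtain ⟨i, j, rfl⟩ : ∃ i j : ℤ, a = d.u i j := by
    obtain ⟨i, j, h | h⟩ := CfsgLib.Wr.cases_elem d a
    · exact ⟨i, j, h⟩
    · exfalso
      have hsq : a * a = d.u (i + j) (i + j) := by
        rw [h, CfsgLib.Wr.v_mul_v, add_comm j i]
      have hc : x * (a * a) = a * a * x := by
        rw [hsq]
        obtain ⟨k, l, hx | hx⟩ := CfsgLib.Wr.cases_elem d x
        · rw [hx, CfsgLib.Wr.u_mul_u, CfsgLib.Wr.u_mul_u, add_comm k, add_comm l]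
        · rw [hx, CfsgLib.Wr.v_mul_u, CfsgLib.Wr.u_mul_v, add_comm k, add_comm l]
      have h2 : x * (a * a) * x⁻¹ = a⁻¹ * a⁻¹ := by rw [← hxa]; group
      rw [hc, mul_inv_cancel_right] at h2
      exact ha4 (by
        calc a ^ 4 = (a * a) * (a * a) := by simp [pow_succ, mul_assoc]
          _ = (a * a) * (a⁻¹ * a⁻¹) := by rw [← h2]
          _ = 1 := by group)
  have haa : d.u i j * d.u i j ≠ 1 := fun h => ha4 (by
    rw [show (4 : ℕ) = 2 * 2 from rfl, pow_mul, sq (d.u i j), h, one_pow])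
  obtain ⟨k, l, rfl⟩ : ∃ k l : ℤ, x = d.v k l := by
    obtain ⟨k, l, h | h⟩ := CfsgLib.Wr.cases_elem d x
    · exfalso
      apply haa
      rw [h, show d.u k l * d.u i j = d.u i j * d.u k l by
        rw [CfsgLib.Wr.u_mul_u, CfsgLib.Wr.u_mul_u, add_comm k, add_comm l], mul_inv_cancel_right] at hxa
      exact eq_inv_iff_mul_eq_one.mp hxa
    · exact ⟨k, l, h⟩
  have hij : 2 * (d.h : ℤ) ∣ i + j := by
    have h : d.v k l * d.u i j = (d.u i j)⁻¹ * d.v k l := mul_inv_eq_iff_eq_mul.mp hxa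
    rw [CfsgLib.Wr.v_mul_u, CfsgLib.Wr.u_inv, CfsgLib.Wr.u_mul_v, CfsgLib.Wr.v_eq_iff] at h
    obtain ⟨t, ht⟩ := h.1
    exact ⟨-t, by linear_combination -ht⟩
  refine ⟨d.u j 0, ?_, ?_⟩
  · rw [CfsgLib.Wr.u_inv, CfsgLib.Wr.u_mul_u, CfsgLib.Wr.u_mul_u, CfsgLib.Wr.u_eq_iff]
    exact ⟨⟨0, by ring⟩, ⟨0, by ring⟩⟩
  · rw [CfsgLib.Wr.u_inv, CfsgLib.Wr.u_mul_v, CfsgLib.Wr.v_mul_u, CfsgLib.Wr.v_mul_u, CfsgLib.Wr.v_eq_iff]
    refine ⟨⟨0, by ring⟩, ?_⟩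
    obtain ⟨t, ht⟩ := hij
    exact ⟨t, by linear_combination ht⟩

/-- In a quasi-dihedral or wreathed group some element centralises the cyclic maximal subgroup of a quaternion
subgroup of order sixteen and exchanges its two quaternion subgroups of order eight. -/
theorem exists_shift (hS : Cfsg.IsQuasiDihedral S ∨ Cfsg.IsWreathed S) {a x : S} (ha : orderOf a = 8)
    (hxa : x * a * x⁻¹ = a⁻¹) : ∃ u : S, u * a * u⁻¹ = a ∧ u * x * u⁻¹ = x * a := by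
  rcases hS with h | h
  · obtain ⟨n, -, -, d, -⟩ := CfsgLib.QD.exists_data h
    exact qd_shift d ha hxa
  · obtain ⟨n, -, -, d, -⟩ := CfsgLib.Wr.exists_data h
    exact wr_shift d ha hxa

end CfsgLib.GWConseq
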