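import Cfsg.Agent.Lib.GW.Conseq.RankOne
import Cfsg.Agent.Lib.GW.Conseq.AltSeven
import Cfsg.Agent.Lib.GW.Conseq.QuatShift
import Cfsg.Agent.Lib.RegularLinear.Cases
import Cfsg.Agent.Lib.Fusion.RankTwoReal.FrameQuaternion
import Cfsg.Agent.Lib.PLocal.StableNormal
import Cfsg.Agent.Lib.PSolvable

/-!
A normal subgroup with quaternion Sylow 2-subgroups in a group with quasi-dihedral or wreathed Sylow 2-subgroups.
-/

set_option autoImplicit false
set_option linter.unusedSectionVars false

namespace CfsgLib.GWConseq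

open Cfsg CfsgLib.GW
open scoped commutatorElement

universe u

variable {H : Type u} [Group H] [Finite H]

theorem rank_of_le {p k : ℕ} {P K : Subgroup H} (hPK : P ≤ K) (h : PRankLE p k K) : PRankLE p k P :=
  fun A hA hexp => by
    haveI := hA
    let ι : P →* K := Subgroup.inclusion hPK
    have := h (A.map ι) inferInstance (by
      rintro _ ⟨a, ha, rfl⟩
      rw [← map_pow, hexp a ha, map_one])
    rwa [Nat.card_congr (A.equivMapOfInjective ι (Subgroup.inclusion_injective hPK)).toEquiv.symm] at this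

/-- Quaternion Sylow 2-subgroups exclude four-groups. -/
theorem rank_of_quaternion {K : Type u} [Group K] [Finite K]
    (hQ : ∀ P : Sylow 2 K, ∃ m : ℕ, 1 ≤ m ∧ Nonempty ((P : Subgroup K) ≃* QuaternionGroup (2 ^ m))) :
    PRankLE 2 1 K := by
  haveI : Fact (Nat.Prime 2) := ⟨Nat.prime_two⟩
  intro A hA hexp
  haveI := hA
  have hAp : IsPGroup 2 A := fun a => ⟨1, Subtype.ext (by simpa using hexp a a.2)⟩
  obtain ⟨T, hT⟩ := hAp.exists_le_sylow
  obtain ⟨m, -, ⟨e⟩⟩ := hQ T
  have hu : CfsgLib.Frob.UniqSub 2 A :=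
    CfsgLib.QuatSection.uniqSub_of_equiv (Subgroup.subgroupOfEquivOfLe hT).symm
      ((CfsgLib.QuatSection.uniqSub_of_equiv e (CfsgLib.QuatSection.uniqSub_quaternion m)).sub
        (A.subgroupOf (T : Subgroup K)))
  have hc : IsCyclic A := CfsgLib.Frob.UniqSub.cyclic_of_comm hAp hu
  obtain ⟨g, hg⟩ := hc.exists_generator
  rw [← orderOf_eq_card_of_forall_mem_zpowers hg, pow_one]
  exact Nat.le_of_dvd two_pos (orderOf_dvd_of_pow_eq_one (Subtype.ext (by simpa using hexp g g.2)))

/-- The derived series of a subgroup inside the group. -/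
def dser (K : Subgroup H) : ℕ → Subgroup H
  | 0 => K
  | n + 1 => ⁅dser K n, dser K n⁆

theorem dser_normal (K : Subgroup H) [K.Normal] : ∀ n, (dser K n).Normal
  | 0 => inferInstanceAs K.Normal
  | n + 1 => by haveI := dser_normal K n; exact inferInstanceAs (⁅dser K n, dser K n⁆).Normal

theorem dser_le (K : Subgroup H) : ∀ n, dser K n ≤ K
  | 0 => le_rfl
  | n + 1 => (Subgroup.commutator_le_self _).trans (dser_le K n)

theorem map_derivedSeries (K : Subgroup H) : ∀ n, (derivedSeries K n).map K.subtype = dser K n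
  | 0 => by rw [derivedSeries_zero, ← MonoidHom.range_eq_map, Subgroup.range_subtype]; rfl
  | n + 1 => by rw [derivedSeries_succ, Subgroup.map_commutator, map_derivedSeries K n]; rfl

/-- The perfect core. -/
theorem exists_perfect_core (K : Subgroup H) [K.Normal] :
    ∃ P : Subgroup H, P.Normal ∧ P ≤ K ∧ Group.IsPerfect P ∧ (P = ⊥ → Group.IsSolvable K) ∧
      ∀ L : Subgroup H, Group.IsPerfect L → L ≤ K → L ≤ P := by
  obtain ⟨N, hN⟩ : ∃ N, dser K (N + 1) = dser K N := by
    by_contra hcon
    push Not at hcon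
    have hlt : ∀ n, Nat.card (dser K n) + n ≤ Nat.card K := by
      intro n
      induction n with
      | zero => exact le_rfl
      | succ n ih =>
        have : Nat.card (dser K (n + 1)) < Nat.card (dser K n) := by
          by_contra hge
          exact hcon n (Subgroup.eq_of_le_of_card_ge (Subgroup.commutator_le_self _) (not_lt.mp hge))
        omega
    have h1 := hlt (Nat.card K + 1)
    omega
  refine ⟨dser K N, dser_normal K N, dser_le K N, Subgroup.isPerfect_iff.mpr hN, fun h => ⟨⟨N, ?_⟩⟩, ?_⟩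
  · apply Subgroup.map_injective K.subtype_injective
    rw [map_derivedSeries, h, Subgroup.map_bot]
  · intro L hL hLK
    have : ∀ n, L ≤ dser K n := by
      intro n
      induction n with
      | zero => exact hLK
      | succ n ih =>
        rw [← Subgroup.commutator_eq_self (H := L)]
        exact Subgroup.commutator_mono ih ih
    exact this N

/-- A perfect group without four-groups, of trivial core, is a simple group modulo its centre of order two. -/
theorem quasi_simple {P : Type u} [Group P] [Finite P] [Group.IsPerfect P] [Nontrivial P] (h1 : PRankLE 2 1 P)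
    (hO : oddCore P = ⊥) :
    ∃ (S : Sylow 2 P) (m : ℕ), 1 ≤ m ∧ Nonempty ((S : Subgroup P) ≃* QuaternionGroup (2 ^ m)) ∧
      Nat.card (Subgroup.center P) = 2 ∧ IsSimpleGroup (P ⧸ Subgroup.center P) := by
  haveI : Fact (Nat.Prime 2) := ⟨Nat.prime_two⟩
  obtain ⟨S⟩ : Nonempty (Sylow 2 P) := inferInstance
  rcases sylow_shape h1 S with hc | ⟨m, hm, ⟨e⟩⟩
  · exfalso
    have hb := sylow_eq_bot_of_cyclic S hc
    have h := S.not_dvd_index
    rw [hb, Subgroup.index_bot] at h
    haveI := subsingleton_of_odd (X := P) (by rwa [← Nat.not_even_iff_odd, even_iff_two_dvd])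
    exact not_nontrivial P inferInstance
  · obtain ⟨k, rfl⟩ := Nat.exists_eq_add_of_le' hm
    have hZ : Nat.card (Subgroup.center P) = 2 := Cfsg.Agent.S0201.result S k e fun N hN hodd => by
      haveI := hN
      exact le_bot_iff.mp (hO ▸ CfsgLib.le_oddCore hodd)
    haveI : Group.IsPerfect (P ⧸ Subgroup.center P) :=
      Group.IsPerfect.ofSurjective (f := QuotientGroup.mk' (Subgroup.center P)) (QuotientGroup.mk'_surjective _)
    exact ⟨S, k + 1, hm, ⟨e⟩, hZ,
      (isSimple_of_core_eq_bot (dihedral_quotient _ hZ S hm (uniqSub_of_rank S.2 (rank_subgroup h1 _)) e)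
        (core_quotient_central hO _ hZ le_rfl)).1⟩

/-- The double cover of `A₇` is not normal in a group with quasi-dihedral or wreathed Sylow 2-subgroups. -/
theorem not_alt_seven (S : Sylow 2 H) (hS : IsQuasiDihedral (S : Subgroup H) ∨ IsWreathed (S : Subgroup H))
    (P : Subgroup H) [P.Normal] [Group.IsPerfect P] (h1 : PRankLE 2 1 P)
    (hA : IsNonsplitDoubleCover P ↥(alternatingGroup (Fin 7))) : False := by
  haveI : Fact (Nat.Prime 2) := ⟨Nat.prime_two⟩
  obtain ⟨hZ, ⟨f⟩, -⟩ := hA
  obtain ⟨T, hT⟩ := CfsgLib.PLocal.exists_sylow_inf S P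
  have hcard : Nat.card (T : Subgroup P) = 2 ^ 4 := by
    rw [T.card_eq_multiplicity, Subgroup.card_eq_card_quotient_mul_card_subgroup (Subgroup.center P),
      Nat.card_congr f.toEquiv, hZ, Nat.factorization_mul (Nat.card_pos.ne') two_ne_zero, Finsupp.add_apply,
      A7.card_two_part, Nat.Prime.factorization_self Nat.prime_two]
  rcases sylow_shape h1 T with hc | ⟨m, hm, ⟨e⟩⟩
  · rw [sylow_eq_bot_of_cyclic T hc, Subgroup.card_bot] at hcard
    norm_num at hcard
  obtain rfl : m = 2 := by
    rw [Nat.card_congr e.toEquiv, Nat.card_eq_fintype_card, QuaternionGroup.card] at hcard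
    rw [show 4 * 2 ^ m = 2 ^ (m + 2) by ring] at hcard
    have := Nat.pow_right_injective le_rfl hcard
    omega
  -- the cyclic and the non-cyclic generators
  set g := (quatDih (2 ^ 2)).comp e.toMonoidHom with hgdef
  have hgs : Function.Surjective g := (quatDih_surjective _).comp e.surjective
  set π : (T : Subgroup P) →* ↥(alternatingGroup (Fin 7)) :=
    (f.toMonoidHom.comp (QuotientGroup.mk' (Subgroup.center P))).comp (T : Subgroup P).subtype with hπ
  have hZT : Subgroup.center P ≤ (T : Subgroup P) := by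
    obtain ⟨T', hT'⟩ :=
      (IsPGroup.of_card (p := 2) (n := 1) (G := Subgroup.center P) (by rw [hZ, pow_one])).exists_le_sylow
    obtain ⟨c, hc⟩ := MulAction.exists_smul_eq P T' T
    intro z hz
    rw [← hc, Sylow.coe_subgroup_smul, Subgroup.mem_pointwise_smul_iff_inv_smul_mem]
    refine hT' ?_
    simpa [MulAut.conj_apply, MulAut.smul_def] using (inferInstance : (Subgroup.center P).Normal).conj_mem z hz c⁻¹
  have hker : π.ker = g.ker := by
    have hu : CfsgLib.Frob.UniqSub 2 (T : Subgroup P) := uniqSub_of_rank T.2 (rank_subgroup h1 _)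
    refine hu _ _ ?_ ?_
    · have : π.ker = (Subgroup.center P).subgroupOf (T : Subgroup P) := by
        ext t
        rw [MonoidHom.mem_ker, hπ, Subgroup.mem_subgroupOf]
        simp only [MonoidHom.comp_apply, MulEquiv.coe_toMonoidHom, MulEquiv.map_eq_one_iff, QuotientGroup.mk'_apply,
          QuotientGroup.eq_one_iff, Subgroup.coe_subtype]
      rw [this]
      exact (Nat.card_congr (Subgroup.subgroupOfEquivOfLe hZT).toEquiv).trans hZ
    · rw [hgdef, ← MonoidHom.comap_ker]
      refine (Nat.card_congr ((Subgroup.equivMapOfInjective _ e.toMonoidHom e.injective).trans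
        (MulEquiv.subgroupCongr (Subgroup.map_comap_eq_self_of_surjective e.surjective _))).toEquiv).trans ?_
      exact card_ker_quatDih _
  set φ : DihedralGroup (2 ^ 2) →* ↥(alternatingGroup (Fin 7)) := g.liftOfSurjective hgs ⟨π, hker.ge⟩ with hφdef
  have hφg : ∀ t, φ (g t) = π t := fun t => MonoidHom.liftOfRightInverse_comp_apply _ _ _ ⟨π, hker.ge⟩ t
  have hφinj : Function.Injective φ := by
    rw [injective_iff_map_eq_one]
    intro d hd
    obtain ⟨t, rfl⟩ := hgs d
    rw [hφg] at hd
    exact (show t ∈ g.ker from hker ▸ hd)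
  set a : (T : Subgroup P) := e.symm (.a 1) with hadef
  set x : (T : Subgroup P) := e.symm (.xa 0) with hxdef
  have hmem : ∀ t : (T : Subgroup P), ((t : P) : H) ∈ (S : Subgroup H) := fun t =>
    (hT.le ⟨(t : P), t.2, rfl⟩ : ((t : P) : H) ∈ (S : Subgroup H) ⊓ P).1
  let ι : (T : Subgroup P) →* (S : Subgroup H) :=
    (P.subtype.comp (T : Subgroup P).subtype).codRestrict _ hmem
  have hιinj : Function.Injective ι := fun t t' h =>
    Subtype.ext (Subtype.ext (congrArg (fun s : (S : Subgroup H) => (s : H)) h))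
  have ha8 : orderOf (ι a) = 8 := by
    rw [orderOf_injective ι hιinj, hadef, MulEquiv.orderOf_eq, QuaternionGroup.orderOf_a_one]
    norm_num
  have hxa : ι x * ι a * (ι x)⁻¹ = (ι a)⁻¹ := by
    rw [← map_inv, ← map_inv, ← map_mul, ← map_mul, hadef, hxdef, ← map_inv, ← map_inv, ← map_mul, ← map_mul]
    exact congrArg (fun q => ι (e.symm q)) (by decide)
  obtain ⟨u, hua, hux⟩ := exists_shift hS ha8 hxa
  set β : MulAut P := MulAut.conjNormal (u : H) with hβdef
  have hβ : ∀ t t' : (T : Subgroup P), u * ι t * u⁻¹ = ι t' → β (t : P) = (t' : P) := fun t t' h =>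
    Subtype.ext ((MulAut.conjNormal_apply (u : H) (t : P)).trans (congrArg (fun s : (S : Subgroup H) => (s : H)) h))
  have hβa : β (a : P) = (a : P) := hβ a a hua
  have hβx : β (x : P) = ((x * a : (T : Subgroup P)) : P) := hβ x (x * a) (by rw [map_mul]; exact hux)
  have hchar : (Subgroup.center P).map (↑β : P →* P) = Subgroup.center P :=
    Subgroup.characteristic_iff_map_eq.mp inferInstance β
  set α : MulAut ↥(alternatingGroup (Fin 7)) :=
    f.symm.trans ((QuotientGroup.congr _ _ β hchar).trans f) with hα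
  have hαπ : ∀ t t' : (T : Subgroup P), β (t : P) = (t' : P) → α (π t) = π t' := fun t t' h => by
    simp only [hα, hπ, MonoidHom.comp_apply, MulEquiv.trans_apply, MulEquiv.coe_toMonoidHom,
      MulEquiv.symm_apply_apply, QuotientGroup.mk'_apply, Subgroup.coe_subtype, QuotientGroup.congr_mk, h]
  have hga : g a = .r 1 := by
    rw [hgdef, MonoidHom.comp_apply, hadef, MulEquiv.coe_toMonoidHom, MulEquiv.apply_symm_apply]
    rfl
  have hgx : g x = .sr 0 := by
    rw [hgdef, MonoidHom.comp_apply, hxdef, MulEquiv.coe_toMonoidHom, MulEquiv.apply_symm_apply]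
    rfl
  refine A7.no_swap φ hφinj α ?_ (i := 1) (Or.inl rfl) ?_
  · show α (φ (.r 1)) = φ (.r 1)
    rw [← hga, hφg]
    exact hαπ a a hβa
  · show α (φ (.sr 0)) = φ (.sr 1)
    rw [show (DihedralGroup.sr 1 : DihedralGroup (2 ^ 2)) = g (x * a) by rw [map_mul, hga, hgx]; decide,
      ← hgx, hφg, hφg]
    exact hαπ x (x * a) hβx

/-- A solvable group without four-groups, of trivial core and without subgroups of index two is `SL(2,3)`. -/
theorem solvable_case {K : Type u} [Group K] [Finite K] [Group.IsSolvable K] (h1 : PRankLE 2 1 K)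
    (hO : oddCore K = ⊥) (h2 : ∀ M : Subgroup K, M.index ≠ 2) (hev : Even (Nat.card K)) :
    Nonempty (K ≃* Matrix.SpecialLinearGroup (Fin 2) (ZMod 3)) := by
  haveI : Fact (Nat.Prime 2) := ⟨Nat.prime_two⟩
  set Q := pCore 2 K with hQdef
  have hQp : IsPGroup 2 Q := CfsgLib.isPGroup_pCore 2
  have hCQ : Subgroup.centralizer (Q : Set K) ≤ Q := CfsgLib.centralizer_pCore_le Nat.prime_two hO
  obtain ⟨p, hp, hpd, hp2⟩ : ∃ p, p.Prime ∧ p ∣ Nat.card K ∧ p ≠ 2 := by
    by_contra hcon
    push Not at hcon
    have hKp : IsPGroup 2 K :=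
      IsPGroup.of_card (n := (Nat.card K).primeFactorsList.length)
        (Nat.eq_prime_pow_of_unique_prime_dvd Nat.card_pos.ne' fun hd hdd => hcon _ hd hdd)
    obtain ⟨n, hn⟩ := IsPGroup.iff_card.mp hKp
    obtain ⟨n, rfl⟩ : ∃ k, n = k + 1 := Nat.exists_eq_succ_of_ne_zero (fun e => by
      rw [hn, e, pow_zero] at hev
      exact Nat.not_even_one hev)
    obtain ⟨M, hM⟩ := Sylow.exists_subgroup_card_pow_prime (G := K) (n := n) 2 (hn ▸ ⟨2, by ring⟩)
    apply h2 M
    have h := M.card_mul_index
    rw [hM, hn, pow_succ] at h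
    exact Nat.eq_of_mul_eq_mul_left (by positivity) h
  haveI : Fact p.Prime := ⟨hp⟩
  obtain ⟨y, hy⟩ := exists_prime_orderOf_dvd_card' (G := K) p hpd
  have hyodd : Odd (orderOf y) := hy ▸ hp.odd_of_ne_two hp2
  have odd_not_mem : ∀ w : K, Odd (orderOf w) → w ∈ Q → w = 1 := fun w hw hwQ => by
    obtain ⟨k, hk⟩ := hQp ⟨w, hwQ⟩
    exact orderOf_eq_one_iff.mp (Nat.eq_one_of_dvd_coprimes (hw.coprime_two_right.pow_right k) dvd_rfl
      (orderOf_dvd_of_pow_eq_one (congrArg Subtype.val hk)))
  have hyC : y ∉ Subgroup.centralizer (Q : Set K) := fun h => hp.one_lt.ne' (by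
    rw [← hy, odd_not_mem y hyodd (hCQ h), orderOf_one])
  obtain ⟨e⟩ := CfsgLib.QuatSection.q8_of_moved hQp (uniqSub_of_rank hQp (rank_subgroup h1 _))
    (g := y) (by rw [Subgroup.normalizer_eq_top]; exact Subgroup.mem_top y) hyC hyodd
  obtain ⟨φ, -, hφr, hrot⟩ := CfsgLib.QuatSection.exists_param e (g := y)
    (by rw [Subgroup.normalizer_eq_top]; exact Subgroup.mem_top y) hyC hyodd
  have hy3 : y ^ 3 ∈ Subgroup.centralizer (Q : Set K) := by
    rw [← hφr]
    rintro _ ⟨q, rfl⟩
    refine (mul_inv_eq_iff_eq_mul.mp (?_ : y ^ 3 * φ q * (y ^ 3)⁻¹ = φ q)).symm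
    conv_rhs => rw [← CfsgLib.Quat.rotFun_cube q]
    rw [← hrot, ← hrot, ← hrot]
    simp [pow_succ, mul_assoc]
  have hy31 : y ^ 3 = 1 := odd_not_mem _ (Odd.of_dvd_nat hyodd (orderOf_pow_dvd 3)) (hCQ hy3)
  have hord3 : orderOf y = 3 := by
    rcases (Nat.dvd_prime Nat.prime_three).mp (orderOf_dvd_of_pow_eq_one hy31) with h | h
    · exact absurd (hy ▸ h) hp.one_lt.ne'
    · exact h
  obtain ⟨θ, hθ⟩ := CfsgLib.RegularLinear.exists_sl23 e hord3 hyC
  have h24 : Nat.card θ.range = 24 := by
    rw [← Nat.card_congr (MonoidHom.ofInjective hθ).toEquiv, CfsgLib.RegularLinear.sl23_card]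
  set c : K →* MulAut Q := MulAut.conjNormal with hc
  have hker : c.ker = Subgroup.centralizer (Q : Set K) := by
    ext k
    rw [MonoidHom.mem_ker, Subgroup.mem_centralizer_iff]
    constructor
    · intro h q hq
      have h' := congrArg Subtype.val (DFunLike.congr_fun h (⟨q, hq⟩ : Q))
      rw [hc, MulAut.conjNormal_apply, MulAut.one_apply] at h'
      exact (mul_inv_eq_iff_eq_mul.mp h').symm
    · intro h
      ext q
      rw [hc, MulAut.conjNormal_apply, MulAut.one_apply, mul_inv_eq_iff_eq_mul]
      exact (h q q.2).symm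
  have hbound : Nat.card K ≤ 48 := by
    rw [← c.ker.card_mul_index, Subgroup.index_ker, hker, Cfsg.FusionSystem.RankTwo.card_centralizer_q8 e hCQ]
    have h1 : Nat.card c.range ≤ Nat.card (MulAut Q) := Nat.card_le_card_of_injective _ Subtype.val_injective
    have h2 := Cfsg.FusionSystem.RankTwo.card_mulAut_q8_le e
    omega
  have htop : θ.range = ⊤ := by
    by_contra hne
    have h := θ.range.card_mul_index
    have hi1 : θ.range.index ≠ 1 := fun h1' => hne (Subgroup.index_eq_one.mp h1')
    have hi2 := h2 θ.range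
    have hi0 : θ.range.index ≠ 0 := Subgroup.index_ne_zero_of_finite
    rw [h24] at h
    omega
  exact ⟨((MulEquiv.ofBijective θ ⟨hθ, MonoidHom.range_eq_top.mp htop⟩).symm : K ≃* _)⟩

/-- Elements of odd order lie in a normal subgroup of 2-power index. -/
theorem odd_mem {K : Subgroup H} [K.Normal] {a : ℕ} (ha : K.index = 2 ^ a) {g : H} (hg : Odd (orderOf g)) :
    g ∈ K := by
  rw [← QuotientGroup.eq_one_iff, ← orderOf_eq_one_iff]
  refine Nat.eq_one_of_dvd_coprimes (hg.coprime_two_right.pow_right a) (orderOf_map_dvd (QuotientGroup.mk' K) g) ?_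
  rw [← ha]
  exact orderOf_dvd_natCard _

theorem sl_le {K L : Subgroup H} [K.Normal] {a : ℕ} (ha : K.index = 2 ^ a) {F : Type} [Field F] [Fintype F]
    (hodd : Odd (Fintype.card F)) (e : L ≃* Matrix.SpecialLinearGroup (Fin 2) F) : L ≤ K := by
  classical
  intro l hl
  have hle : ∀ s : Matrix.SpecialLinearGroup (Fin 2) F, ((e.symm s : L) : H) ∈ K := by
    suffices (⊤ : Subgroup (Matrix.SpecialLinearGroup (Fin 2) F)) ≤ K.comap (L.subtype.comp e.symm.toMonoidHom) from
      fun s => this (Subgroup.mem_top s)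
    rw [← CfsgLib.StSL.closure_transvection_eq_top (K := F) (n := 2) le_rfl, Subgroup.closure_le]
    rintro _ ⟨i, j, hij, t, rfl⟩
    refine odd_mem ha (Odd.of_dvd_nat hodd ((orderOf_map_dvd (L.subtype.comp e.symm.toMonoidHom) _).trans
      (orderOf_dvd_of_pow_eq_one ?_)))
    have hpow : ∀ k : ℕ, (Matrix.SpecialLinearGroup.transvection hij t) ^ k =
        Matrix.SpecialLinearGroup.transvection hij (k • t) := by
      intro k
      induction k with
      | zero =>
        rw [pow_zero, zero_smul]
        refine Subtype.ext ?_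
        show (1 : Matrix (Fin 2) (Fin 2) F) = Matrix.transvection i j (0 : F)
        rw [Matrix.transvection_zero]
      | succ k ih =>
        rw [pow_succ, ih, succ_nsmul]
        refine Subtype.ext ?_
        show Matrix.transvection i j (k • t) * Matrix.transvection i j t = Matrix.transvection i j (k • t + t)
        rw [Matrix.transvection_mul_transvection_same i j hij]
    refine Subtype.ext ?_
    rw [hpow, nsmul_eq_mul, FiniteField.cast_card_eq_zero, zero_mul]
    simp [Matrix.SpecialLinearGroup.transvection]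
  simpa using hle (e ⟨l, hl⟩)

/-- The normal `SL(2,F)` in the quaternion case. -/
theorem quat_normal (hGW : GWThm.{u}) (S : Sylow 2 H)
    (hS : IsQuasiDihedral (S : Subgroup H) ∨ IsWreathed (S : Subgroup H)) (hO : oddCore H = ⊥)
    (K : Subgroup H) [K.Normal] (hidx : ∃ a : ℕ, K.index = 2 ^ a) (h2 : ∀ M : Subgroup K, M.index ≠ 2)
    (hQ : ∀ P : Sylow 2 K, ∃ m : ℕ, 1 ≤ m ∧ Nonempty ((P : Subgroup K) ≃* QuaternionGroup (2 ^ m))) :
    ∃ L₀ : Subgroup H, L₀.Normal ∧ (∃ (F : Type) (_ : Field F) (_ : Fintype F), Odd (Fintype.card F) ∧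
        Nonempty (L₀ ≃* Matrix.SpecialLinearGroup (Fin 2) F)) ∧
      ∀ L₁ : Subgroup H, L₁.Normal → (∃ (F : Type) (_ : Field F) (_ : Fintype F), Odd (Fintype.card F) ∧
        Nonempty (L₁ ≃* Matrix.SpecialLinearGroup (Fin 2) F)) → L₁ = L₀ := by
  haveI : Fact (Nat.Prime 2) := ⟨Nat.prime_two⟩
  obtain ⟨a, ha⟩ := hidx
  have hr : PRankLE 2 1 K := rank_of_quaternion hQ
  have hOK : oddCore K = ⊥ := by
    apply Subgroup.map_injective K.subtype_injective
    rw [Subgroup.map_bot]
    exact le_bot_iff.mp (hO ▸ CfsgLib.map_pPrimeCore_le 2 K)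
  have hev : Even (Nat.card K) := by
    obtain ⟨T⟩ : Nonempty (Sylow 2 K) := inferInstance
    obtain ⟨m, -, ⟨e⟩⟩ := hQ T
    have h := (T : Subgroup K).card_subgroup_dvd_card
    rw [Nat.card_congr e.toEquiv, Nat.card_eq_fintype_card (α := QuaternionGroup (2 ^ m)), QuaternionGroup.card] at h
    exact even_iff_two_dvd.mpr ((dvd_mul_of_dvd_left (by norm_num) _).trans h)
  obtain ⟨P, hPn, hPK, hPperf, hPsol, hPmax⟩ := exists_perfect_core K
  haveI := hPn
  haveI := hPperf
  rcases eq_or_ne P ⊥ with hP | hP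
  · -- the solvable case
    haveI := hPsol hP
    obtain ⟨e⟩ := solvable_case hr hOK h2 hev
    refine ⟨K, inferInstance, ⟨ZMod 3, inferInstance, inferInstance, by rw [ZMod.card]; decide, ⟨e⟩⟩, ?_⟩
    rintro L₁ hL₁ ⟨F, hF, hFt, hodd, ⟨f⟩⟩
    have hLK : L₁ ≤ K := sl_le ha hodd f
    refine Subgroup.eq_of_le_of_card_ge hLK ?_
    have hF3 : Fintype.card F = 3 := by
      by_contra hne
      have hperf : commutator (Matrix.SpecialLinearGroup (Fin 2) F) = ⊤ := CfsgLib.StSL.perfect_SL2 (by
        have := Fintype.one_lt_card (α := F)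
        obtain ⟨j, hj⟩ := hodd
        omega)
      haveI : Group.IsPerfect (Matrix.SpecialLinearGroup (Fin 2) F) := ⟨hperf⟩
      haveI : Group.IsPerfect L₁ := Group.IsPerfect.ofSurjective (f := f.symm.toMonoidHom) f.symm.surjective
      have hbot : L₁ = ⊥ := le_bot_iff.mp (hP ▸ hPmax L₁ inferInstance hLK)
      have h1 : Nat.card (Matrix.SpecialLinearGroup (Fin 2) F) = 1 := by
        rw [← Nat.card_congr f.toEquiv, hbot, Subgroup.card_bot]
      rw [CfsgLib.SLCard.card_SL_two] at h1
      have := Fintype.one_lt_card (α := F)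
      have := Nat.eq_one_of_mul_eq_one_right h1
      omega
    rw [Nat.card_congr e.toEquiv, Nat.card_congr f.toEquiv, CfsgLib.SLCard.card_SL_two, CfsgLib.SLCard.card_SL_two,
      hF3, ZMod.card]
  · -- the non-solvable case
    haveI : Nontrivial P := (Subgroup.nontrivial_iff_ne_bot P).mpr hP
    have hrP : PRankLE 2 1 P := rank_of_le hPK hr
    have hOP : oddCore P = ⊥ := by
      apply Subgroup.map_injective P.subtype_injective
      rw [Subgroup.map_bot]
      exact le_bot_iff.mp (hO ▸ CfsgLib.map_pPrimeCore_le 2 P)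
    obtain ⟨T, m, hm, ⟨eT⟩, hZ, hsimple⟩ := quasi_simple hrP hOP
    rcases (quaternion_core_free hGW hOP T hm eT).2 with ⟨F₀, hF₀, hFt₀, hodd₀, h3₀, ⟨f₀⟩⟩ | hA
    swap
    · exact (not_alt_seven S hS P hrP hA).elim
    refine ⟨P, hPn, ⟨F₀, hF₀, hFt₀, hodd₀, ⟨f₀⟩⟩, ?_⟩
    rintro L₁ hL₁ ⟨F, hF, hFt, hodd, ⟨f⟩⟩
    haveI := hL₁
    have hLK : L₁ ≤ K := sl_le ha hodd f
    -- a normal subgroup inside the perfect core is everything or central
    have hdich : P ≤ L₁ ∨ L₁ ⊓ P ≤ (Subgroup.center P).map P.subtype := by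
      have hN : ((L₁.subgroupOf P).map (QuotientGroup.mk' (Subgroup.center P))).Normal :=
        Subgroup.Normal.map inferInstance _ (QuotientGroup.mk'_surjective _)
      rcases hsimple.eq_bot_or_eq_top_of_normal _ hN with h | h
      · refine Or.inr fun x hx => ⟨⟨x, hx.2⟩, ?_, rfl⟩
        rw [Subgroup.map_eq_bot_iff, QuotientGroup.ker_mk'] at h
        exact h (Subgroup.mem_subgroupOf.mpr hx.1)
      · left
        have hsup : L₁.subgroupOf P ⊔ Subgroup.center P = ⊤ := by
          have := congrArg (Subgroup.comap (QuotientGroup.mk' (Subgroup.center P))) h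
          rwa [Subgroup.comap_map_eq, QuotientGroup.ker_mk', Subgroup.comap_top] at this
        have hcomm : ∀ p q : P, ⁅p, q⁆ ∈ L₁.subgroupOf P := fun p q => by
          have hp : p ∈ ((L₁.subgroupOf P ⊔ Subgroup.center P : Subgroup P) : Set P) := hsup ▸ Subgroup.mem_top p
          have hq : q ∈ ((L₁.subgroupOf P ⊔ Subgroup.center P : Subgroup P) : Set P) := hsup ▸ Subgroup.mem_top q
          rw [Subgroup.normal_mul] at hp hq
          obtain ⟨l, hl, c, hc, rfl⟩ := hp
          obtain ⟨l', hl', c', hc', rfl⟩ := hq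
          have e1 := Subgroup.mem_center_iff.mp hc
          have e2 := Subgroup.mem_center_iff.mp hc'
          have : ⁅l * c, l' * c'⁆ = ⁅l, l'⁆ := by
            rw [commutatorElement_def, commutatorElement_def]
            calc l * c * (l' * c') * (l * c)⁻¹ * (l' * c')⁻¹
                = l * (c * (l' * c') * c⁻¹) * l⁻¹ * (l' * c')⁻¹ := by group
              _ = l * (l' * c') * l⁻¹ * (l' * c')⁻¹ := by rw [← e1 (l' * c'), mul_inv_cancel_right]
              _ = l * l' * (c' * l⁻¹ * c'⁻¹) * l'⁻¹ := by group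
              _ = l * l' * l⁻¹ * l'⁻¹ := by rw [← e2 l⁻¹, mul_inv_cancel_right]
          rw [this]
          exact Subgroup.commutator_le_self _ (Subgroup.commutator_mem_commutator hl hl')
        intro x hx
        have : commutator P ≤ L₁.subgroupOf P := by
          rw [commutator_def, Subgroup.commutator_le]
          exact fun p _ q _ => hcomm p q
        exact Subgroup.mem_subgroupOf.mp (this (Group.IsPerfect.mem_commutator (g := (⟨x, hx⟩ : P))))
    rcases lt_or_ge 3 (Fintype.card F) with hq | hq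
    · have hperf : commutator (Matrix.SpecialLinearGroup (Fin 2) F) = ⊤ := CfsgLib.StSL.perfect_SL2 hq
      haveI : Group.IsPerfect (Matrix.SpecialLinearGroup (Fin 2) F) := ⟨hperf⟩
      haveI : Group.IsPerfect L₁ := Group.IsPerfect.ofSurjective (f := f.symm.toMonoidHom) f.symm.surjective
      have hLP : L₁ ≤ P := hPmax L₁ inferInstance hLK
      refine le_antisymm hLP (hdich.resolve_right fun h => ?_)
      have hle : Nat.card L₁ ≤ 2 := by
        rw [← hZ, Nat.card_congr ((Subgroup.center P).equivMapOfInjective P.subtype P.subtype_injective).toEquiv]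
        exact Nat.card_le_card_of_injective _ (Subgroup.inclusion_injective (inf_eq_left.mpr hLP ▸ h))
      rw [Nat.card_congr f.toEquiv, CfsgLib.SLCard.card_SL_two] at hle
      have : 3 ^ 2 ≤ Fintype.card F ^ 2 := Nat.pow_le_pow_left hq.le 2
      have : 4 * 8 ≤ Fintype.card F * (Fintype.card F ^ 2 - 1) := Nat.mul_le_mul (by omega) (by omega)
      omega
    · exfalso
      -- `L₁` has an element of order four commuting with `P`
      have hnle : ¬ P ≤ L₁ := fun h => by
        have h1 := Subgroup.card_dvd_of_le h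
        rw [Nat.card_congr f₀.toEquiv, Nat.card_congr f.toEquiv, CfsgLib.SLCard.card_SL_two,
          CfsgLib.SLCard.card_SL_two] at h1
        have h4 : 3 ^ 2 < Fintype.card F₀ ^ 2 := Nat.pow_lt_pow_left h3₀ two_ne_zero
        have : 4 * 8 ≤ Fintype.card F₀ * (Fintype.card F₀ ^ 2 - 1) := Nat.mul_le_mul (by omega) (by omega)
        have h5 : Fintype.card F * (Fintype.card F ^ 2 - 1) ≤ 3 * 8 := by
          refine Nat.mul_le_mul hq ?_
          have := Nat.pow_le_pow_left hq 2
          omega
        have := Nat.le_of_dvd (Nat.mul_pos Fintype.card_pos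
          (Nat.sub_pos_of_lt (Nat.one_lt_pow two_ne_zero Fintype.one_lt_card))) h1
        omega
      have hLP := hdich.resolve_left hnle
      have hcen : ∀ i ∈ L₁, ∀ p ∈ P, i * p = p * i := by
        intro i hi
        have hz : ∀ p : P, (⁅i, (p : H)⁆ : H) ∈ (Subgroup.center P).map P.subtype := fun p =>
          hLP (Subgroup.mem_inf.mpr ⟨by
            rw [commutatorElement_def, mul_assoc, mul_assoc, ← mul_assoc (p : H)]
            exact L₁.mul_mem hi (hL₁.conj_mem _ (L₁.inv_mem hi) (p : H)),
            by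
            rw [commutatorElement_def]
            exact P.mul_mem (hPn.conj_mem _ p.2 i) (P.inv_mem p.2)⟩)
        choose ψ hψ hψe using hz
        have hcz : ∀ p q : P, ((ψ p : P) : H) * (q : H) = (q : H) * ((ψ p : P) : H) := fun p q =>
          (congrArg Subtype.val (Subgroup.mem_center_iff.mp (hψ p) q)).symm
        let Ψ : P →* Subgroup.center P := MonoidHom.mk' (fun p => ⟨ψ p, hψ p⟩) fun p q => Subtype.ext (Subtype.ext (by
          show ((ψ (p * q) : P) : H) = ((ψ p : P) : H) * ((ψ q : P) : H)
          have hp : ((ψ p : P) : H) = ⁅i, (p : H)⁆ := hψe p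
          have hq : ((ψ q : P) : H) = ⁅i, (q : H)⁆ := hψe q
          have hpq : ((ψ (p * q) : P) : H) = ⁅i, (p : H) * q⁆ := hψe (p * q)
          rw [hpq, show ⁅i, (p : H) * q⁆ = ⁅i, (p : H)⁆ * ((p : H) * ⁅i, (q : H)⁆ * (p : H)⁻¹) by
            rw [commutatorElement_def, commutatorElement_def, commutatorElement_def]; group, ← hq, ← hp,
            ← hcz q p, mul_inv_cancel_right]))
        intro p hp
        have h1 : Ψ ⟨p, hp⟩ = 1 := by
          have : commutator P ≤ Ψ.ker := by
            rw [commutator_def, Subgroup.commutator_le]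
            intro u _ v _
            rw [MonoidHom.mem_ker, map_commutatorElement, commutatorElement_eq_one_iff_commute]
            exact Subtype.ext (Subgroup.mem_center_iff.mp (Ψ v).2 (Ψ u : P))
          exact this Group.IsPerfect.mem_commutator
        have h1' : ⁅i, p⁆ = 1 := by
          rw [← hψe ⟨p, hp⟩]
          exact congrArg (fun c : Subgroup.center P => ((c : P) : H)) h1
        exact commutatorElement_eq_one_iff_commute.mp h1'
      obtain ⟨i, hiL, hi4⟩ : ∃ i ∈ L₁, orderOf i = 4 := by
        classical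
        let w : Matrix.SpecialLinearGroup (Fin 2) F := ⟨!![0, 1; -1, 0], by simp [Matrix.det_fin_two]⟩
        refine ⟨(f.symm w : L₁), (f.symm w).2, ?_⟩
        rw [Subgroup.orderOf_coe, MulEquiv.orderOf_eq]
        haveI : NeZero (2 : F) := ⟨fun h => by
          have hch : ringChar F = 2 := by
            rw [ringChar.eq_iff]
            exact CharTwo.of_one_ne_zero_of_two_eq_zero one_ne_zero h
          have := FiniteField.even_card_iff_char_two.mp hch
          rw [Nat.odd_iff] at hodd
          omega⟩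
        have hww : w.1 * w.1 = -1 := by
          ext r s
          fin_cases r <;> fin_cases s <;> simp [w, Matrix.mul_apply, Fin.sum_univ_two]
        refine orderOf_eq_prime_pow (p := 2) (n := 1) (fun h => ?_) (Subtype.ext ?_)
        · have h' : w.1 * w.1 = 1 := by
            rw [pow_one, pow_two] at h
            exact congrArg Subtype.val h
          rw [hww] at h'
          have h00 := congrFun (congrFun h' 0) 0
          simp only [Matrix.neg_apply, Matrix.one_apply_eq] at h00
          exact two_ne_zero (α := F) (by linear_combination -h00)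
        · show (w ^ 2 ^ (1 + 1)).1 = 1
          rw [show (2 : ℕ) ^ (1 + 1) = 2 * 2 from rfl, pow_mul, pow_two, pow_two]
          show w.1 * w.1 * (w.1 * w.1) = 1
          rw [hww, neg_mul_neg, one_mul]
      obtain ⟨t, ht4⟩ : ∃ t : P, orderOf t = 4 := by
        refine ⟨(eT.symm (.xa 0) : (T : Subgroup P)), ?_⟩
        rw [Subgroup.orderOf_coe, MulEquiv.orderOf_eq]
        haveI : NeZero (2 ^ m) := ⟨pow_ne_zero _ two_ne_zero⟩
        exact QuaternionGroup.orderOf_xa 0
      have hiK := hLK hiL
      set tK : K := ⟨(t : H), hPK t.2⟩ with htK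
      set iK : K := ⟨i, hiK⟩ with hiK'
      obtain ⟨TK⟩ : Nonempty (Sylow 2 K) := inferInstance
      obtain ⟨mK, hmK, ⟨eK⟩⟩ := hQ TK
      obtain ⟨k, rfl⟩ := Nat.exists_eq_add_of_le' hmK
      have hZK : Nat.card (Subgroup.center K) = 2 := Cfsg.Agent.S0201.result TK k eK fun N hN hN' => by
        haveI := hN
        exact le_bot_iff.mp (hOK ▸ CfsgLib.le_oddCore hN')
      obtain ⟨z, hz⟩ := exists_prime_orderOf_dvd_card' (G := Subgroup.center K) 2 hZK.symm.dvd
      rw [← Subgroup.orderOf_coe] at hz
      have hsq : ∀ w : K, orderOf w = 4 → w * w = (z : K) := fun w hw => by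
        have h4 : w ^ 4 = 1 := hw ▸ pow_orderOf_eq_one w
        refine (invol_cases hr z.2 hz (w * w) (by rw [← h4]; simp [pow_succ, mul_assoc])).resolve_left fun h => ?_
        have := Nat.le_of_dvd two_pos (orderOf_dvd_of_pow_eq_one (show w ^ 2 = 1 by rw [pow_two, h]))
        omega
      have hit : Commute iK tK := Subtype.ext (hcen i hiL t t.2)
      have h1 := hsq iK (by rw [hiK', Subgroup.orderOf_mk, hi4])
      have h2' := hsq tK (by rw [htK, Subgroup.orderOf_mk, Subgroup.orderOf_coe, ht4])
      have hzz : (z : K) * (z : K) = 1 := by rw [← pow_two, ← hz]; exact pow_orderOf_eq_one _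
      have hprod : iK * tK * (iK * tK) = 1 := by
        rw [← mul_assoc, mul_assoc iK tK iK, ← hit.eq, ← mul_assoc, mul_assoc (iK * iK), h1, h2', hzz]
      have hiP : i ∈ P := by
        rcases invol_cases hr z.2 hz _ hprod with h | h
        · have e : i = (t : H)⁻¹ := by
            have := congrArg Subtype.val h
            exact eq_inv_of_mul_eq_one_left this
          rw [e]
          exact inv_mem t.2
        · have e : iK = tK := mul_right_cancel (h.trans h2'.symm)
          have : i = (t : H) := congrArg Subtype.val e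
          rw [this]
          exact t.2
      obtain ⟨c, hc, hci⟩ := hLP ⟨hiL, hiP⟩
      have h4le : orderOf c ∣ 2 := by
        have h := Subgroup.orderOf_dvd_natCard (Subgroup.center P) hc
        rwa [hZ] at h
      rw [← hci, Subgroup.subtype_apply, Subgroup.orderOf_coe] at hi4
      rw [hi4] at h4le
      norm_num at h4le

end CfsgLib.GWConseq
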