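import Cfsg.Agent.Lib.GW.Conseq.DiagPair
import Cfsg.Agent.Lib.CharTheory.Burnside

/-!
Four groups acting on a simple group with dihedral Sylow 2-subgroups so that the centralisers of two
involutions have cyclic Sylow 2-subgroups (conditional on the Gorenstein–Walter theorem).
-/

set_option autoImplicit false
set_option linter.style.haveILetI false
set_option linter.unusedSectionVars false

namespace CfsgLib.GWConseq

open Cfsg CfsgLib.GW

universe u

theorem pairProp_model {M : Type u} [Group M] (h : GWModel M) : PairProp M := by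
  rcases h with ⟨F, iF, iF', ho, h3, ⟨e⟩⟩ | e7
  · exact (pairProp_psl ho h3).of_equiv e
  · exact pairProp_seven.of_equiv e7.some

theorem not_cyclic_sylow {L : Type u} [Group L] [Finite L] [IsSimpleGroup L] (hns : ¬ Group.IsSolvable L)
    (P : Sylow 2 L) : ¬ IsCyclic (P : Subgroup L) := by
  haveI := Fact.mk Nat.prime_two
  intro hc
  have h2 : 2 ∣ Nat.card L := by
    rw [← even_iff_two_dvd, ← Nat.not_odd_iff_even]
    exact fun ho => hns (CfsgLib.OddOrder.feitThompson ho)
  have hmin : (Nat.card L).minFac = 2 := (Nat.minFac_eq_two_iff _).mpr h2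
  have hPC := IsCyclic.normalizer_le_centralizer hmin hc
  have h1 := (MonoidHom.ker_transferSylow_isComplement' P hPC).card_mul_card
  rcases (inferInstance : (MonoidHom.transferSylow P hPC).ker.Normal).eq_bot_or_eq_top with h | h
  · rw [h, Subgroup.card_bot, one_mul] at h1
    refine hns ?_
    haveI : Group.IsNilpotent L := (IsPGroup.of_card (p := 2) (n := (Nat.card L).factorization 2)
      (h1.symm.trans P.card_eq_multiplicity)).isNilpotent
    infer_instance
  · rw [h, Subgroup.card_top] at h1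
    exact P.ne_bot_of_dvd_card h2 (Subgroup.eq_bot_of_card_eq _ ((Nat.mul_eq_left Nat.card_pos.ne').mp h1))

theorem mul_commute_centralizer (hGW : GWThm.{u}) {G : Type u} [Group G] [Finite G] (L : Subgroup G)
    (hL : IsSimpleGroup L) (hLn : ¬ IsMulCommutative L)
    (hD : ∀ P : Sylow 2 L, ∃ n : ℕ, Nonempty (↥(P : Subgroup L) ≃* DihedralGroup n))
    (a b : G) (ha : orderOf a = 2) (hb : orderOf b = 2) (hc : a * b = b * a)
    (haL : a ∈ Subgroup.normalizer (L : Set G)) (hbL : b ∈ Subgroup.normalizer (L : Set G))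
    (hCa : ∀ R : Sylow 2 ↥(L ⊓ Subgroup.centralizer ({a} : Set G)), IsCyclic R)
    (hCb : ∀ R : Sylow 2 ↥(L ⊓ Subgroup.centralizer ({b} : Set G)), IsCyclic R)
    (hgen : ¬ L ≤ Subgroup.closure ({a, b} : Set G) ⊔ (L ⊓ Subgroup.centralizer ({a} : Set G)) ⊔
      (L ⊓ Subgroup.centralizer ({b} : Set G))) :
    a * b ∈ Subgroup.centralizer (L : Set G) := by
  classical
  haveI := hL
  haveI : Fact (Nat.Prime 2) := ⟨Nat.prime_two⟩
  have hns : ¬ Group.IsSolvable L := fun hs =>
    hLn ⟨⟨IsSimpleGroup.comm_iff_isSolvable.mpr hs⟩⟩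
  haveI : Group.IsPerfect L := by
    refine ⟨((inferInstance : (commutator L).Normal).eq_bot_or_eq_top).resolve_left fun h => hLn ⟨⟨fun x y => ?_⟩⟩⟩
    have := Subgroup.commutator_mem_commutator (Subgroup.mem_top x) (Subgroup.mem_top y)
    rw [← commutator_def, h, Subgroup.mem_bot, commutatorElement_eq_one_iff_mul_comm] at this
    exact this
  obtain ⟨P⟩ : Nonempty (Sylow 2 L) := inferInstance
  obtain ⟨n, ⟨eP⟩⟩ := hD P
  have hn : 2 ≤ n := by
    by_contra hlt
    rcases (show n = 0 ∨ n = 1 by omega) with rfl | rfl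
    · haveI : Finite (DihedralGroup 0) := Finite.of_equiv _ eP.toEquiv
      exact not_finite (DihedralGroup 0)
    · refine not_cyclic_sylow hns P ?_
      exact isCyclic_of_prime_card (p := 2) (by rw [Nat.card_congr eP.toEquiv, DihedralGroup.nat_card])
  have hcore : oddCore L = ⊥ := by
    refine ((inferInstance : (oddCore L).Normal).eq_bot_or_eq_top).resolve_right fun h => hns ?_
    refine CfsgLib.OddOrder.feitThompson ?_
    have := CfsgLib.odd_card_oddCore (G := L)
    rwa [h, Subgroup.card_top] at this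
  have hpair := pairProp_model (GWThm.model hGW ⟨P, n, hn, ⟨eP⟩⟩ hcore)
  -- the induced automorphisms
  have hnk : ∀ (c : G) (hcL : c ∈ Subgroup.normalizer (L : Set G)),
      (∀ R : Sylow 2 ↥(L ⊓ Subgroup.centralizer ({c} : Set G)), IsCyclic R) →
      NoKlein (fixedSub (Subgroup.normalizerMonoidHom L ⟨c, hcL⟩)) := by
    intro c hcL hR x hx y hy hx2 hx1 hy2 hy1 hxy
    have hmem : ∀ z : L, z ∈ fixedSub (Subgroup.normalizerMonoidHom L ⟨c, hcL⟩) →
        (z : G) ∈ L ⊓ Subgroup.centralizer ({c} : Set G) := fun z hz => by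
      refine Subgroup.mem_inf.mpr ⟨z.2, Subgroup.mem_centralizer_singleton_iff.mpr ?_⟩
      have e : c * (z : G) * c⁻¹ = z := congrArg Subtype.val (mem_fixedSub.mp hz)
      exact (mul_inv_eq_iff_eq_mul.mp e).symm
    set C := L ⊓ Subgroup.centralizer ({c} : Set G)
    set x' : C := ⟨x, hmem x hx⟩
    set y' : C := ⟨y, hmem y hy⟩
    have hz2 : ∀ z : C, z * z = 1 → IsPGroup 2 (Subgroup.zpowers z) := fun z hz => by
      obtain ⟨i, -, hi⟩ := (Nat.dvd_prime_pow Nat.prime_two).mp
        (orderOf_dvd_of_pow_eq_one (show z ^ 2 ^ 1 = 1 by rw [pow_one, pow_two, hz]))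
      exact IsPGroup.of_card (n := i) (by rw [Nat.card_zpowers, hi])
    have hV : IsPGroup 2 ↥(Subgroup.zpowers x' ⊔ Subgroup.zpowers y') := by
      refine IsPGroup.to_sup_of_normal_right' (hz2 x' (Subtype.ext (congrArg Subtype.val hx2 :)))
        (hz2 y' (Subtype.ext (congrArg Subtype.val hy2 :))) (Subgroup.zpowers_le.mpr ?_)
      refine Subgroup.centralizer_le_normalizer _ (Subgroup.mem_centralizer_iff.mpr ?_)
      rintro _ ⟨i, rfl⟩
      exact (((show Commute x' y' from Subtype.ext (congrArg Subtype.val hxy :)).symm).zpow_left i).eq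
    obtain ⟨R, hRV⟩ := hV.exists_le_sylow
    haveI := hR R
    have ho : ∀ (z : C), z * z = 1 → z ≠ 1 → orderOf z = 2 := fun z e e1 => orderOf_eq_prime (by rw [pow_two, e]) e1
    have := CfsgLib.BSW.unique_involution_of_cyclic (R : Subgroup C) (x := x') (y := y')
      (hRV (Subgroup.mem_sup_left (Subgroup.mem_zpowers _))) (hRV (Subgroup.mem_sup_right (Subgroup.mem_zpowers _)))
      (ho x' (Subtype.ext (congrArg Subtype.val hx2 :)) fun e => hx1 (Subtype.ext (congrArg Subtype.val e :)))
      (ho y' (Subtype.ext (congrArg Subtype.val hy2 :)) fun e => hy1 (Subtype.ext (congrArg Subtype.val e :)))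
    exact Subtype.ext (congrArg Subtype.val this :)
  set α := Subgroup.normalizerMonoidHom L ⟨a, haL⟩
  set β := Subgroup.normalizerMonoidHom L ⟨b, hbL⟩
  have hne1 : ∀ γ : MulAut L, NoKlein (fixedSub γ) → γ ≠ 1 := by
    rintro γ hγ rfl
    have hall : ∀ z : L, z ∈ fixedSub (1 : MulAut L) := fun z => rfl
    obtain ⟨j, hj⟩ := IsPGroup.iff_card.mp P.2
    rw [Nat.card_congr eP.toEquiv, DihedralGroup.nat_card] at hj
    obtain ⟨m, hm⟩ : 2 ∣ n := by
      rcases j with _ | _ | i
      · rw [pow_zero] at hj; omega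
      · rw [zero_add, pow_one] at hj; omega
      · exact ⟨2 ^ i, by rw [pow_succ, pow_succ] at hj; omega⟩
    have hzero : ((m : ZMod n) + m) = 0 := by
      rw [← Nat.cast_add, ZMod.natCast_eq_zero_iff, hm]; exact ⟨1, by ring⟩
    have hm0 : (m : ZMod n) ≠ 0 := fun e => by
      rw [ZMod.natCast_eq_zero_iff] at e
      have := Nat.le_of_dvd (by omega) e
      omega
    have hr : DihedralGroup.r (m : ZMod n) * DihedralGroup.r (m : ZMod n) = 1 := by
      rw [DihedralGroup.r_mul_r, hzero, DihedralGroup.r_zero]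
    have hcomm : DihedralGroup.r (m : ZMod n) * DihedralGroup.sr 0 = DihedralGroup.sr 0 * DihedralGroup.r (m : ZMod n) := by
      rw [DihedralGroup.r_mul_sr, DihedralGroup.sr_mul_r, zero_sub, zero_add, neg_eq_of_add_eq_zero_left hzero]
    have e := hγ ((eP.symm (DihedralGroup.r (m : ZMod n)) : P) : L) (hall _)
      ((eP.symm (DihedralGroup.sr 0) : P) : L) (hall _)
      (by rw [← Subgroup.coe_mul, ← map_mul, hr, map_one, Subgroup.coe_one])
      (fun e => by
        have h' : DihedralGroup.r (m : ZMod n) = 1 :=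
          eP.symm.injective ((Subtype.ext e : eP.symm (DihedralGroup.r (m : ZMod n)) = 1).trans (map_one _).symm)
        rw [DihedralGroup.one_def, DihedralGroup.r.injEq] at h'
        exact hm0 h')
      (by rw [← Subgroup.coe_mul, ← map_mul, DihedralGroup.sr_mul_self, map_one, Subgroup.coe_one])
      (fun e => by
        have h' : (DihedralGroup.sr 0 : DihedralGroup n) = 1 :=
          eP.symm.injective ((Subtype.ext e : eP.symm (DihedralGroup.sr 0) = 1).trans (map_one _).symm)
        rw [DihedralGroup.one_def] at h'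
        cases h')
      (by rw [← Subgroup.coe_mul, ← Subgroup.coe_mul, ← map_mul, ← map_mul, hcomm])
    cases eP.symm.injective (Subtype.ext e)
  have hinv : ∀ (c : G) (hcL : c ∈ Subgroup.normalizer (L : Set G)), orderOf c = 2 →
      Subgroup.normalizerMonoidHom L ⟨c, hcL⟩ * Subgroup.normalizerMonoidHom L ⟨c, hcL⟩ = 1 := by
    intro c hcL hc2
    rw [← map_mul, show (⟨c, hcL⟩ : Subgroup.normalizer (L : Set G)) * ⟨c, hcL⟩ = 1 from
      Subtype.ext (by show c * c = 1; rw [← pow_two, ← hc2, pow_orderOf_eq_one]), map_one]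
  have hαβ : α = β := by
    refine hpair α β (hinv a haL ha) (hne1 α (hnk a haL hCa)) (hinv b hbL hb) (hne1 β (hnk b hbL hCb)) ?_
      (hnk a haL hCa) (hnk b hbL hCb) ?_
    · simp only [α, β]
      rw [← map_mul, ← map_mul]
      congr 1
      exact Subtype.ext hc
    · intro htop
      apply hgen
      have hmap : ∀ (c : G) (hcL : c ∈ Subgroup.normalizer (L : Set G)),
          (fixedSub (Subgroup.normalizerMonoidHom L ⟨c, hcL⟩)).map L.subtype ≤
            L ⊓ Subgroup.centralizer ({c} : Set G) := by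
        rintro c hcL _ ⟨z, hz, rfl⟩
        refine Subgroup.mem_inf.mpr ⟨z.2, Subgroup.mem_centralizer_singleton_iff.mpr ?_⟩
        have e : c * (z : G) * c⁻¹ = z := congrArg Subtype.val (mem_fixedSub.mp hz)
        exact (mul_inv_eq_iff_eq_mul.mp e).symm
      intro l hl
      have hmem : l ∈ (fixedSub α ⊔ fixedSub β).map L.subtype :=
        ⟨⟨l, hl⟩, htop ▸ Subgroup.mem_top _, rfl⟩
      rw [Subgroup.map_sup] at hmem
      exact sup_le ((hmap a haL).trans (le_sup_right.trans le_sup_left)) ((hmap b hbL).trans le_sup_right) hmem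
  refine Subgroup.mem_centralizer_iff.mpr fun l hl => ?_
  have e : a * l * a⁻¹ = b * l * b⁻¹ := by
    have := congrArg (fun γ : MulAut L => ((γ (⟨l, hl⟩ : L) : L) : G)) hαβ
    simpa [α, β] using this
  have hbb : b⁻¹ = b := inv_eq_of_mul_eq_one_right (by rw [← pow_two, ← hb, pow_orderOf_eq_one])
  have haa : a⁻¹ = a := inv_eq_of_mul_eq_one_right (by rw [← pow_two, ← ha, pow_orderOf_eq_one])
  rw [haa, hbb] at e
  calc l * (a * b) = a * (a * l * a) * b := by rw [show a * (a * l * a) = (a * a) * (l * a) by group, show a * a = 1 by rw [← pow_two, ← ha, pow_orderOf_eq_one], one_mul, mul_assoc]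
    _ = a * (b * l * b) * b := by rw [e]
    _ = a * b * l * (b * b) := by group
    _ = a * b * l := by rw [show b * b = 1 by rw [← pow_two, ← hb, pow_orderOf_eq_one], mul_one]

end CfsgLib.GWConseq
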