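import Cfsg.Agent.Lib.GW.Conseq.Basic
import Cfsg.Agent.Lib.GW.Model.Psl
import Cfsg.Agent.Lib.GW.Model.Seven
import Cfsg.Agent.Lib.GW.Model.Field
import Cfsg.Agent.Lib.DicksonFull.Main
import Cfsg.Agent.Lib.MinNonCA.SmallCA
import Cfsg.Agent.S2119

/-!
Two commuting involutory automorphisms of `PSL₂(q)` or `A₇` whose centralisers have cyclic Sylow 2-subgroups
are equal, unless their centralisers generate the group.
-/

set_option autoImplicit false
set_option linter.style.haveILetI false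
set_option linter.unusedSectionVars false

namespace CfsgLib.GWConseq

open Cfsg CfsgLib.GW CfsgLib.GW.Model

universe u v

/-- The fixed subgroup of an automorphism. -/
def fixedSub {M : Type u} [Group M] (α : MulAut M) : Subgroup M where
  carrier := {x | α x = x}
  one_mem' := map_one α
  mul_mem' {x y} (hx : α x = x) (hy : α y = y) := by show α (x * y) = x * y; rw [map_mul, hx, hy]
  inv_mem' {x} (hx : α x = x) := by show α x⁻¹ = x⁻¹; rw [map_inv, hx]

theorem mem_fixedSub {M : Type u} [Group M] {α : MulAut M} {x : M} : x ∈ fixedSub α ↔ α x = x := Iff.rfl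

/-- No four group. -/
def NoKlein {M : Type u} [Group M] (C : Subgroup M) : Prop :=
  ∀ x ∈ C, ∀ y ∈ C, x * x = 1 → x ≠ 1 → y * y = 1 → y ≠ 1 → x * y = y * x → x = y

/-- The conclusion on pairs of automorphisms. -/
def PairProp (M : Type u) [Group M] : Prop :=
  ∀ α β : MulAut M, α * α = 1 → α ≠ 1 → β * β = 1 → β ≠ 1 → α * β = β * α →
    NoKlein (fixedSub α) → NoKlein (fixedSub β) → fixedSub α ⊔ fixedSub β ≠ ⊤ → α = β

theorem PairProp.of_equiv {M : Type u} [Group M] {N : Type v} [Group N] (e : M ≃* N) (h : PairProp N) :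
    PairProp M := by
  intro α β hα hα1 hβ hβ1 hc hKa hKb hgen
  have hfix : ∀ γ : MulAut M, fixedSub (MulAut.congr e γ) = (fixedSub γ).map e.toMonoidHom := by
    intro γ
    ext x
    rw [mem_fixedSub, Subgroup.mem_map]
    show e (γ (e.symm x)) = x ↔ _
    constructor
    · intro h
      refine ⟨e.symm x, ?_, e.apply_symm_apply x⟩
      rw [mem_fixedSub]
      exact e.injective (h.trans (e.apply_symm_apply x).symm)
    · rintro ⟨y, hy, rfl⟩
      show e (γ (e.symm (e y))) = e y
      rw [e.symm_apply_apply, mem_fixedSub.mp hy]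
  have hNK : ∀ γ : MulAut M, NoKlein (fixedSub γ) → NoKlein (fixedSub (MulAut.congr e γ)) := by
    intro γ hγ x hx y hy
    rw [hfix, Subgroup.mem_map] at hx hy
    obtain ⟨x, hx, rfl⟩ := hx
    obtain ⟨y, hy, rfl⟩ := hy
    intro h1 h2 h3 h4 h5
    change e x * e x = 1 at h1
    change e y * e y = 1 at h3
    change e x * e y = e y * e x at h5
    change e x = e y
    rw [← map_mul, MulEquiv.map_eq_one_iff] at h1 h3
    rw [← map_mul, ← map_mul] at h5
    rw [hγ x hx y hy h1 (fun he => h2 (by rw [he]; exact map_one e)) h3 (fun he => h4 (by rw [he]; exact map_one e))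
      (e.injective h5)]
  refine (MulAut.congr e).injective (h _ _ ?_ ?_ ?_ ?_ ?_ (hNK α hKa) (hNK β hKb) ?_)
  · rw [← map_mul, hα, map_one]
  · exact fun he => hα1 ((MulAut.congr e).injective (he.trans (map_one _).symm))
  · rw [← map_mul, hβ, map_one]
  · exact fun he => hβ1 ((MulAut.congr e).injective (he.trans (map_one _).symm))
  · rw [← map_mul, hc, map_mul]
  · rw [hfix, hfix, ← Subgroup.map_sup]
    intro he
    exact hgen (Subgroup.map_injective e.injective (he.trans (Subgroup.map_top_of_surjective _ e.surjective).symm))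

section Seven

open Equiv

/-- An involution of `S₇` commutes with a four group of `A₇`. -/
theorem seven_klein {s : Perm (Fin 7)} (hs : s * s = 1) (hs1 : s ≠ 1) :
    ∃ a b : Perm (Fin 7), Perm.sign a = 1 ∧ Perm.sign b = 1 ∧ a * a = 1 ∧ b * b = 1 ∧ a ≠ 1 ∧ b ≠ 1 ∧ a ≠ b ∧
      a * b = b * a ∧ s * a = a * s ∧ s * b = b * s := by
  have ho : orderOf s = 2 := orderOf_eq_prime (by rw [pow_two, hs]) hs1
  obtain ⟨n, hn⟩ := Perm.cycleType_prime_order (σ := s) (by rw [ho]; exact Nat.prime_two)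
  rw [ho] at hn
  have hle : s.cycleType.sum ≤ 7 := by
    rw [Perm.sum_cycleType]; exact (Finset.card_le_univ _).trans (by rw [Fintype.card_fin])
  rw [hn, Multiset.sum_replicate, smul_eq_mul] at hle
  have key : ∀ r : Perm (Fin 7), r.cycleType = s.cycleType → (∃ a b : Perm (Fin 7), Perm.sign a = 1 ∧ Perm.sign b = 1 ∧
      a * a = 1 ∧ b * b = 1 ∧ a ≠ 1 ∧ b ≠ 1 ∧ a ≠ b ∧ a * b = b * a ∧ r * a = a * r ∧ r * b = b * r) →
      ∃ a b : Perm (Fin 7), Perm.sign a = 1 ∧ Perm.sign b = 1 ∧ a * a = 1 ∧ b * b = 1 ∧ a ≠ 1 ∧ b ≠ 1 ∧ a ≠ b ∧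
        a * b = b * a ∧ s * a = a * s ∧ s * b = b * s := by
    rintro r hr ⟨a, b, h1, h2, h3, h4, h5, h6, h7, h8, h9, h10⟩
    obtain ⟨c, hc⟩ := isConj_iff.mp (Perm.isConj_iff_cycleType_eq.mpr hr)
    let f := MulAut.conj c
    have hf : ∀ x y, c * x * c⁻¹ * (c * y * c⁻¹) = c * (x * y) * c⁻¹ := fun x y => by group
    refine ⟨c * a * c⁻¹, c * b * c⁻¹, by simp [h1], by simp [h2], by rw [hf, h3]; group, by rw [hf, h4]; group,
      fun e => h5 (conj_eq_one_iff.mp e), fun e => h6 (conj_eq_one_iff.mp e),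
      fun e => h7 (mul_left_cancel (mul_right_cancel e)), by rw [hf, hf, h8], ?_, ?_⟩
    · rw [← hc, hf, hf, h9]
    · rw [← hc, hf, hf, h10]
  have hn' : n = 0 ∨ n = 1 ∨ n = 2 := by omega
  rcases hn' with rfl | rfl | rfl
  · refine key (swap 0 1) ?_ ⟨swap 2 3 * swap 4 5, swap 2 4 * swap 3 5, by decide +kernel⟩
    rw [hn, Perm.IsCycle.cycleType (Perm.isCycle_swap (by decide))]
    decide +kernel
  · refine key (swap 0 1 * swap 2 3) ?_ ⟨swap 0 1 * swap 2 3, swap 0 2 * swap 1 3, by decide +kernel⟩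
    rw [hn]
    decide +kernel
  · refine key (swap 0 1 * swap 2 3 * swap 4 5) ?_ ⟨swap 0 1 * swap 2 3, swap 0 1 * swap 4 5, by decide +kernel⟩
    rw [hn]
    decide +kernel

theorem pairProp_seven : PairProp (alternatingGroup (Fin 7)) := by
  intro α _ hα hα1 _ _ _ hK _ _
  exfalso
  set s := autSeven α with hs
  obtain ⟨a, b, ha, hb, ha2, hb2, ha1, hb1, hab, hcab, hsa, hsb⟩ := seven_klein (s := s)
    (by rw [hs, ← map_mul, hα, map_one]) (fun e => hα1 (autSeven.injective (e.trans (map_one _).symm)))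
  have hα' : α = autSeven.symm s := (autSeven.symm_apply_apply α).symm
  have hmem : ∀ (x : alternatingGroup (Fin 7)), s * (x : Perm (Fin 7)) = x * s → x ∈ fixedSub α := fun x hx => by
    rw [mem_fixedSub, hα']
    refine Subtype.ext ?_
    show ((MulAut.conjNormal s x : alternatingGroup (Fin 7)) : Perm (Fin 7)) = x
    rw [MulAut.conjNormal_apply, hx, mul_inv_cancel_right]
  exact hab (congrArg Subtype.val (hK ⟨a, ha⟩ (hmem ⟨a, ha⟩ hsa) ⟨b, hb⟩ (hmem ⟨b, hb⟩ hsb) (Subtype.ext ha2)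
    (fun e => ha1 (congrArg Subtype.val e)) (Subtype.ext hb2) (fun e => hb1 (congrArg Subtype.val e))
    (Subtype.ext hcab)))

end Seven

section Small

open Equiv

theorem a4_no_inv : ∀ a b : alternatingGroup (Fin 4), b * a * b⁻¹ = a⁻¹ → a * a = 1 := by decide +kernel

theorem s4_odd : ∀ a : Perm (Fin 4), a ^ 3 = 1 ∨ (a * a) * (a * a) = 1 := by decide +kernel

theorem a5_odd : ∀ a : alternatingGroup (Fin 5), a ^ 3 = 1 ∨ a ^ 5 = 1 ∨ a * a = 1 := by decide +kernel

set_option synthInstance.maxSize 2000 in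
theorem s4_word : ∀ u w : Perm (Fin 4), u ^ 3 = 1 → w ^ 3 = 1 → u ≠ 1 → w ≠ 1 → w ≠ u → w ≠ u⁻¹ →
    ¬ ((u * w) ^ 2 = 1 ↔ (u * w⁻¹) ^ 2 = 1) := by decide +kernel

set_option synthInstance.maxSize 2000 in
theorem a5_word : ∀ u w : alternatingGroup (Fin 5), u ^ 5 = 1 → u ≠ 1 → w ^ 5 = 1 → w ≠ 1 →
    u * w = w * u ∨ ¬ ((u * w) ^ 2 = 1 ↔ (u * w⁻¹) ^ 2 = 1) ∨ ¬ ((u * w) ^ 3 = 1 ↔ (u * w⁻¹) ^ 3 = 1) ∨
      ¬ ((u * u * w) ^ 2 = 1 ↔ (u * u * w⁻¹) ^ 2 = 1) ∨ ¬ ((u * u * w) ^ 3 = 1 ↔ (u * u * w⁻¹) ^ 3 = 1) := by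
  decide +kernel

end Small

section PSL2

open Matrix CfsgLib.PSL2Max
open scoped MatrixGroups

variable {F : Type} [Field F] [Fintype F]

local notation "M2" => Matrix (Fin 2) (Fin 2) F
local notation "SL" => Matrix.SpecialLinearGroup (Fin 2) F
local notation "PSL" => Matrix.ProjectiveSpecialLinearGroup (Fin 2) F
local notation "PGL" => Matrix.ProjGenLinGroup (Fin 2) F
local notation "q" => Fintype.card F

theorem card_pgl_two {K : Type} [Field K] [Fintype K] :
    Nat.card (Matrix.ProjGenLinGroup (Fin 2) K) = Fintype.card K * (Fintype.card K ^ 2 - 1) := by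
  rw [CfsgLib.SLCard.card_PGL, CfsgLib.SLCard.card_SL_two]

theorem mem_fixed_act {g : PGL} {y : PSL} :
    y ∈ fixedSub (act g) ↔ phi y ∈ Subgroup.centralizer ({g} : Set PGL) := by
  rw [mem_fixedSub, Subgroup.mem_centralizer_singleton_iff]
  constructor
  · intro h
    have e := phi_act g y
    rw [h] at e
    exact (eq_mul_inv_iff_mul_eq.mp e)
  · intro h
    refine phi_injective ?_
    rw [phi_act, ← h, mul_inv_cancel_right]

theorem eq_one_of_sq_of_odd {A : Type*} [Group A] {y : A} (h : y * y = 1) (ho : Odd (orderOf y)) : y = 1 := by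
  have hd := orderOf_dvd_of_pow_eq_one (show y ^ 2 = 1 by rw [sq, h])
  rcases (Nat.dvd_prime Nat.prime_two).mp hd with e | e
  · exact orderOf_eq_one_iff.mp e
  · rw [e] at ho; norm_num at ho

/-- The shape of such an automorphism. -/
theorem exists_outer (hodd : Odd q) (h3 : 3 < q) {α : MulAut PSL} (hα : α * α = 1) (hα1 : α ≠ 1)
    (hK : NoKlein (fixedSub α)) :
    ∃ g : PGL, α = act g ∧ g * g = 1 ∧ g ≠ 1 ∧ g ∉ (phi (F := F)).range := by
  classical
  obtain ⟨p, hp⟩ := CharP.exists F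
  haveI := hp
  haveI : Fact p.Prime := ⟨CharP.char_is_prime F p⟩
  have hf : CfsgLib.PSL2.fieldPart p α = 1 := by
    by_contra hf
    obtain ⟨U, hU, hfix⟩ := field_involution_klein p (two_ne_zero_of_odd hodd) hα hf
    haveI := hU
    haveI : Finite U := Nat.finite_of_card_ne_zero (by rw [IsKleinFour.card_four]; norm_num)
    haveI : Fintype U := Fintype.ofFinite _
    obtain ⟨x, -, hx⟩ := Finset.exists_mem_notMem_of_card_lt_card (s := ({1} : Finset U)) (t := Finset.univ) (by
      rw [Finset.card_singleton, Finset.card_univ, ← Nat.card_eq_fintype_card, IsKleinFour.card_four]; norm_num)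
    obtain ⟨y, -, hy⟩ := Finset.exists_mem_notMem_of_card_lt_card (s := ({1, x} : Finset U)) (t := Finset.univ) (by
      refine lt_of_le_of_lt Finset.card_le_two ?_
      rw [Finset.card_univ, ← Nat.card_eq_fintype_card, IsKleinFour.card_four]; norm_num)
    simp only [Finset.mem_insert, Finset.mem_singleton, not_or] at hx hy
    haveI := IsKleinFour.isMulCommutative (G := U)
    exact hy.2 (Subtype.ext (hK x (hfix x x.2) y (hfix y y.2) (congrArg Subtype.val (IsKleinFour.mul_self x))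
      (fun e => hx (Subtype.ext e)) (congrArg Subtype.val (IsKleinFour.mul_self y))
      (fun e => hy.1 (Subtype.ext e)) (setLike_mul_comm x.2 y.2)).symm)
  obtain ⟨g, hαg⟩ := exists_act p hf
  subst hαg
  have hg2 : g * g = 1 := act_injective (by rw [map_mul, hα, map_one])
  have hg1 : g ≠ 1 := fun e => hα1 (by rw [e, map_one])
  refine ⟨g, rfl, hg2, hg1, ?_⟩
  rintro ⟨y, rfl⟩
  obtain ⟨U, -, -, hgU, hUC, -, -, hUhalf, hCP, hout, -⟩ := invol_cent hodd h3 hg2 hg1
  obtain ⟨u, huC, huU⟩ : ∃ u : PSL, phi u ∈ Subgroup.centralizer ({phi y} : Set PGL) ∧ phi u ∉ U := by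
    by_contra hall
    push Not at hall
    have hle : (Subgroup.centralizer ({phi y} : Set PGL)).comap phi ≤ U.comap phi := fun z hz => hall z hz
    have hc := Subgroup.card_le_of_le hle
    have := four_le_torusOrder (F := F) hodd h3 (phi y)
    omega
  have hyy : y * y = 1 := phi_injective (by rw [map_mul, hg2, map_one])
  have huu : u * u = 1 := phi_injective (by rw [map_mul, (hout _ huC huU).1, map_one])
  have := hK y (mem_fixed_act.mpr (hUC hgU)) u (mem_fixed_act.mpr huC) hyy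
    (fun e => hg1 (by rw [e, map_one])) huu (fun e => huU (by rw [e, map_one]; exact one_mem _))
    (phi_injective (by rw [map_mul, map_mul, Subgroup.mem_centralizer_singleton_iff.mp huC]))
  exact huU (this ▸ hgU)

/-- Inverted elements of Borel subgroups. -/
theorem borel_inverted (p : ℕ) [Fact p.Prime] [CharP F p] (P : Sylow p PSL)
    {u x : PSL} (hu : u ∈ Subgroup.normalizer ((P : Subgroup PSL) : Set PSL))
    (hx : x ∈ Subgroup.normalizer ((P : Subgroup PSL) : Set PSL)) (hinv : x * u * x⁻¹ = u⁻¹)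
    (ho : Odd (orderOf u)) (hp : (orderOf u).Coprime p) : u = 1 := by
  haveI : Finite PSL := Quotient.finite _
  obtain ⟨g, hg⟩ := MulAction.exists_smul_eq PSL P (CfsgLib.PSL2.uSylow (F := F) p)
  have hle : ∀ k ∈ Subgroup.normalizer ((P : Subgroup PSL) : Set PSL), ∃ A : SL, A.1 1 0 = 0 ∧
      CfsgLib.PSL2.mk A = g * k * g⁻¹ := by
    intro k hk
    obtain ⟨G0, hG0⟩ := QuotientGroup.mk'_surjective _ (g * k * g⁻¹)
    refine ⟨G0, CfsgLib.PSL2.upper_of_normalizes G0 ?_, hG0⟩
    rw [show CfsgLib.PSL2.mk G0 = g * k * g⁻¹ from hG0]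
    have hPg : ∀ y, y ∈ (P : Subgroup PSL) ↔ g * y * g⁻¹ ∈ (CfsgLib.PSL2.uHom : Multiplicative F →* PSL).range := by
      intro y
      show _ ↔ g * y * g⁻¹ ∈ ((CfsgLib.PSL2.uSylow (F := F) p : Sylow p PSL) : Subgroup PSL)
      rw [← hg, Sylow.coe_subgroup_smul]
      constructor
      · exact fun hy => ⟨y, hy, rfl⟩
      · rintro ⟨z, hz, e⟩
        rwa [← (MulAut.conj g).injective (show MulAut.conj g z = MulAut.conj g y from e)]
    have hmem : g⁻¹ * CfsgLib.PSL2.uu (1 : F) * g ∈ (P : Subgroup PSL) := by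
      rw [hPg, show g * (g⁻¹ * CfsgLib.PSL2.uu (1 : F) * g) * g⁻¹ = CfsgLib.PSL2.uu (1 : F) by group]
      exact ⟨_, rfl⟩
    have := (hPg _).mp ((Subgroup.mem_normalizer_iff.mp hk _).mp hmem)
    convert this using 1
    group
  obtain ⟨A, hA, eA⟩ := hle u hu
  obtain ⟨X, hX, eX⟩ := hle x hx
  have h : CfsgLib.PSL2.mk (A⁻¹) = CfsgLib.PSL2.mk (X * A * X⁻¹) := by
    rw [map_inv, map_mul, map_mul, map_inv, eA, eX]
    calc (g * u * g⁻¹)⁻¹ = g * u⁻¹ * g⁻¹ := by group
      _ = g * (x * u * x⁻¹) * g⁻¹ := by rw [hinv]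
      _ = _ := by group
  have hdA := A.2
  have hdX := X.2
  rw [Matrix.det_fin_two, hA, mul_zero, sub_zero] at hdA
  rw [Matrix.det_fin_two, hX, mul_zero, sub_zero] at hdX
  have hXA : (X * A * X⁻¹).1 0 0 = A.1 0 0 := by
    simp [Matrix.mul_apply, Fin.sum_univ_two, Matrix.SpecialLinearGroup.coe_inv, Matrix.adjugate_fin_two, hA, hX]
    linear_combination A.1 0 0 * hdX
  have hAinv : (A⁻¹).1 0 0 = A.1 1 1 := by
    simp [Matrix.SpecialLinearGroup.coe_inv, Matrix.adjugate_fin_two]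
  have h4 : A.1 0 0 ^ 4 = 1 := by
    rcases CfsgLib.PSL2.mk_eq_mk.mp h with e | e <;>
      have e00 := congrFun (congrFun e 0) 0
    · rw [hXA, hAinv] at e00
      rw [← e00] at hdA
      linear_combination (A.1 0 0 ^ 2 + 1) * hdA
    · rw [hXA, Matrix.neg_apply, hAinv] at e00
      have : A.1 1 1 = -A.1 0 0 := by linear_combination e00
      rw [this] at hdA
      linear_combination (1 - A.1 0 0 ^ 2) * hdA
  have hpow : ∀ i : ℕ, (A ^ i).1 1 0 = 0 ∧ (A ^ i).1 0 0 = A.1 0 0 ^ i := by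
    intro i
    induction i with
    | zero => simp
    | succ i ih =>
      rw [pow_succ, Matrix.SpecialLinearGroup.coe_mul, Matrix.mul_apply, Matrix.mul_apply,
        Fin.sum_univ_two, Fin.sum_univ_two, ih.1, ih.2, hA, pow_succ]
      constructor <;> ring
  obtain ⟨h10, h00⟩ := hpow 4
  rw [h4] at h00
  have hd4 := (A ^ 4).2
  rw [Matrix.det_fin_two, h10, mul_zero, sub_zero, h00, one_mul] at hd4
  obtain ⟨t, ht⟩ := (CfsgLib.PSL2.mem_uRange_iff (A ^ 4)).mpr ⟨h10, by rw [h00, hd4], Or.inl h00⟩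
  have hup : (u ^ 4) ^ p = 1 := by
    have : (g * u ^ 4 * g⁻¹) ^ p = 1 := by
      rw [← conj_pow, ← eA, ← map_pow, ← ht, ← map_pow]
      have : t ^ p = 1 := Multiplicative.toAdd.injective (by simp)
      rw [this, map_one]
    rwa [conj_pow, conj_eq_one_iff] at this
  rw [← pow_mul] at hup
  exact orderOf_eq_one_iff.mp (Nat.eq_one_of_dvd_coprimes
    (Nat.Coprime.mul_right (Nat.Coprime.pow_right 2 (Nat.coprime_two_right.mpr ho)) hp) dvd_rfl
    (orderOf_dvd_of_pow_eq_one (show u ^ (2 ^ 2 * p) = 1 from hup)))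

/-- The data of one outer involution. -/
theorem outer_torus (hodd : Odd q) (h3 : 3 < q) {g : PGL} (h2 : g * g = 1) (h1 : g ≠ 1)
    (hg : g ∉ (phi (F := F)).range) :
    ∃ U : Subgroup PGL, IsCyclic U ∧ g ∈ U ∧ U ≤ Subgroup.centralizer ({g} : Set PGL) ∧
      (∀ x ∈ Subgroup.centralizer ({g} : Set PGL), x ∉ U → x * x = 1 ∧ ∀ u ∈ U, x * u * x⁻¹ = u⁻¹) ∧
      (∀ u ∈ U, u * u ≠ 1 → Subgroup.centralizer ({u} : Set PGL) ≤ U) ∧
      ∃ u : PSL, phi u ∈ U ∧ u ∈ fixedSub (act g) ∧ 2 * orderOf u = qp F ∧ Odd (orderOf u) ∧ u ≠ 1 := by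
  haveI : Finite PSL := Quotient.finite _
  obtain ⟨U, hUc, -, hgU, hUC, -, -, hUhalf, -, hout, hreg⟩ := invol_cent hodd h3 h2 h1
  have htor : torusOrder g = qp F := by rw [torusOrder, if_neg hg]
  haveI := hUc
  haveI : IsCyclic (U.comap (phi (F := F))) :=
    isCyclic_of_injective ((phi.comp (U.comap phi).subtype).codRestrict U fun y => y.2)
      fun a b hab => Subtype.ext (phi_injective (congrArg Subtype.val hab))
  obtain ⟨d, hd⟩ := IsCyclic.exists_ofOrder_eq_natCard (α := U.comap (phi (F := F)))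
  have h4 := four_le_torusOrder (F := F) hodd h3 g
  obtain ⟨-, hqo, hq2, -⟩ := qm_qp_arith (F := F) hodd
  have hdo : orderOf (d : PSL) = qp F / 2 := by rw [Subgroup.orderOf_coe, hd]; omega
  refine ⟨U, hUc, hgU, hUC, hout, hreg, d, d.2, mem_fixed_act.mpr (hUC d.2), by omega, hdo ▸ hqo, ?_⟩
  intro e
  rw [e, orderOf_one] at hdo
  omega

theorem word_iff {A : Type*} [Group A] {γ : MulAut A} {K : Subgroup A} {B : Type*} [Group B] (e : K ≃* B)
    {a b : K} (hab : γ (a : A) = b) (n : ℕ) : (e a) ^ n = 1 ↔ (e b) ^ n = 1 := by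
  rw [← map_pow, ← map_pow, MulEquiv.map_eq_one_iff, MulEquiv.map_eq_one_iff, Subtype.ext_iff, Subtype.ext_iff]
  show (a : A) ^ n = 1 ↔ (b : A) ^ n = 1
  rw [← hab, ← map_pow, MulEquiv.map_eq_one_iff]

theorem pairProp_psl (hodd : Odd q) (h3 : 3 < q) : PairProp PSL := by
  classical
  haveI : Finite PSL := Quotient.finite _
  intro α β hα hα1 hβ hβ1 hc hKa hKb hgen
  obtain ⟨g, rfl, hg2, hg1, hgR⟩ := exists_outer hodd h3 hα hα1 hKa
  obtain ⟨h, rfl, hh2, hh1, hhR⟩ := exists_outer hodd h3 hβ hβ1 hKb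
  by_contra hne
  have hgh : g ≠ h := fun e => hne (by rw [e])
  have hghc : g * h = h * g := act_injective (by rw [map_mul, map_mul, hc])
  obtain ⟨p, hp⟩ := CharP.exists F
  haveI := hp
  haveI : Fact p.Prime := ⟨CharP.char_is_prime F p⟩
  obtain ⟨U, hUc, hgU, hUC, houtU, hregU, u, huU, huK, huo, huodd, hu1⟩ := outer_torus hodd h3 hg2 hg1 hgR
  obtain ⟨V, hVc, hhV, hVC, houtV, -, w, hwV, hwK, hwo, hwodd, hw1⟩ := outer_torus hodd h3 hh2 hh1 hhR
  haveI := hUc
  haveI := hVc
  haveI : Finite PGL := Finite.of_surjective _ Matrix.ProjGenLinGroup.mk_surjective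
  have ho2 : ∀ y : PGL, y * y = 1 → y ≠ 1 → orderOf y = 2 := fun y e e1 => orderOf_eq_prime (by rw [sq, e]) e1
  have hgV : g ∉ V := fun e =>
    hgh (CfsgLib.BSW.unique_involution_of_cyclic V e hhV (ho2 g hg2 hg1) (ho2 h hh2 hh1))
  have hhU : h ∉ U := fun e =>
    hgh (CfsgLib.BSW.unique_involution_of_cyclic U hgU e (ho2 g hg2 hg1) (ho2 h hh2 hh1))
  have hgCh : g ∈ Subgroup.centralizer ({h} : Set PGL) := Subgroup.mem_centralizer_singleton_iff.mpr hghc
  have hhCg : h ∈ Subgroup.centralizer ({g} : Set PGL) := Subgroup.mem_centralizer_singleton_iff.mpr hghc.symm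
  have hαu : act g u = u := mem_fixedSub.mp huK
  have hαw : act g w = w⁻¹ := phi_injective (by rw [phi_act, (houtV g hgCh hgV).2 _ hwV, map_inv])
  obtain ⟨x, hx⟩ : g * h ∈ (phi (F := F)).range := by
    rw [Subgroup.mul_mem_iff_of_index_two (index_range p (p_ne_two p hodd))]
    exact iff_of_false hgR hhR
  have hxg : x ∈ fixedSub (act g) := mem_fixed_act.mpr (by
    rw [hx, Subgroup.mem_centralizer_singleton_iff, mul_assoc, hghc.symm, ← mul_assoc])
  have hxu : x * u * x⁻¹ = u⁻¹ := phi_injective (by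
    rw [map_mul, map_mul, map_inv, map_inv, hx, _root_.mul_inv_rev]
    calc g * h * phi u * (h⁻¹ * g⁻¹) = g * (h * phi u * h⁻¹) * g⁻¹ := by group
      _ = g * (phi u)⁻¹ * g⁻¹ := by rw [(houtU h hhCg hhU).2 _ huU]
      _ = (phi u)⁻¹ := by
        rw [← Subgroup.mem_centralizer_singleton_iff.mp (inv_mem (hUC huU)), mul_inv_cancel_right])
  have hxw : x * w * x⁻¹ = w⁻¹ := phi_injective (by
    rw [map_mul, map_mul, map_inv, map_inv, hx, _root_.mul_inv_rev]
    calc g * h * phi w * (h⁻¹ * g⁻¹) = g * (h * phi w * h⁻¹) * g⁻¹ := by group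
      _ = g * phi w * g⁻¹ := by
        rw [← Subgroup.mem_centralizer_singleton_iff.mp (hVC hwV), mul_inv_cancel_right]
      _ = (phi w)⁻¹ := (houtV g hgCh hgV).2 _ hwV)
  have huw : u * w ≠ w * u := by
    intro e
    have hsq : phi u * phi u ≠ 1 := fun e' =>
      hu1 (eq_one_of_sq_of_odd (phi_injective (by rw [map_mul, e', map_one])) huodd)
    have hwU : phi w ∈ U := hregU _ huU hsq (Subgroup.mem_centralizer_singleton_iff.mpr
      (by rw [← map_mul, ← map_mul, e]))
    have hwg := hUC hwU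
    rw [← mem_fixed_act, mem_fixedSub, hαw] at hwg
    exact hw1 (eq_one_of_sq_of_odd (by nth_rewrite 1 [← hwg]; exact inv_mul_cancel w) hwodd)
  set K := fixedSub (act g) ⊔ fixedSub (act h) with hK
  have huK' : u ∈ K := Subgroup.mem_sup_left huK
  have hwK' : w ∈ K := Subgroup.mem_sup_right hwK
  have hxK' : x ∈ K := Subgroup.mem_sup_left hxg
  set u' : K := ⟨u, huK'⟩ with hu'
  set w' : K := ⟨w, hwK'⟩ with hw'
  set x' : K := ⟨x, hxK'⟩ with hx'
  have huw' : u' * w' ≠ w' * u' := fun e => huw (congrArg Subtype.val e)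
  have hu'1 : u' ≠ 1 := fun e => hu1 (congrArg Subtype.val e)
  have hw'1 : w' ≠ 1 := fun e => hw1 (congrArg Subtype.val e)
  have hou : orderOf u' = orderOf u := (Subgroup.orderOf_coe u').symm
  have how : orderOf w' = orderOf w := (Subgroup.orderOf_coe w').symm
  have hxu' : x' * u' * x'⁻¹ = u'⁻¹ := Subtype.ext hxu
  obtain ⟨-, -, hq2, hqsum⟩ := qm_qp_arith (F := F) hodd
  have hmle : qp F + 1 ≥ q := by unfold qp; split <;> omega
  have hmle' : qp F ≤ q + 1 := by unfold qp; split <;> omega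
  rcases CfsgLib.DicksonFull.classification p K with ⟨k, -, ⟨hcy, -⟩ | ⟨⟨e⟩⟩⟩ | ⟨P, K', hK', ⟨e⟩⟩ | ⟨⟨e⟩⟩ | ⟨⟨e⟩⟩ |
    ⟨⟨e⟩⟩ | ⟨F0, iF0, iF0', r, hr, hiso⟩
  · haveI := hcy
    exact huw' (mul_comm' u' w')
  · have hrot : ∀ y : K, Odd (orderOf y) → y ≠ 1 → ∃ i, e y = DihedralGroup.r i := by
      intro y hy hy1
      rcases hey : e y with i | i
      · exact ⟨i, rfl⟩
      · refine absurd (eq_one_of_sq_of_odd (e.injective ?_) hy) hy1
        rw [map_mul, map_one, hey, DihedralGroup.sr_mul_self]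
    obtain ⟨i, hi⟩ := hrot u' (hou ▸ huodd) hu'1
    obtain ⟨j, hj⟩ := hrot w' (how ▸ hwodd) hw'1
    exact huw' (e.injective (by rw [map_mul, map_mul, hi, hj, DihedralGroup.r_mul_r, DihedralGroup.r_mul_r, add_comm]))
  · have ho : orderOf (e u' : PSL) = orderOf u := by rw [Subgroup.orderOf_coe, e.orderOf_eq, hou]
    refine hu'1 (e.injective (Subtype.ext ?_))
    rw [map_one]
    refine borel_inverted p P (hK' (e u').2) (hK' (e x').2) ?_ (ho ▸ huodd) ?_
    · rw [← Subgroup.coe_mul, ← Subgroup.coe_inv, ← Subgroup.coe_mul, ← map_inv, ← map_mul, ← map_mul, hxu',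
        map_inv, Subgroup.coe_inv]
    · rw [ho, Nat.coprime_comm, (Fact.out : p.Prime).coprime_iff_not_dvd]
      intro hd
      obtain ⟨n, hpp, hn⟩ := FiniteField.card F p
      have h1 : p ∣ q := hn ▸ dvd_pow_self p n.ne_zero
      have h2' : p ∣ qp F := hd.trans (Dvd.intro_left 2 huo)
      have hp3 : 3 ≤ p := by
        have := hpp.two_le
        have := p_ne_two (F := F) p hodd
        omega
      have h1' : p ∣ 1 := by
        unfold qp at h2'
        split at h2'
        · exact (Nat.dvd_add_right h1).mp h2'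
        · have := Nat.dvd_sub h1 h2'
          rwa [show q - (q - 1) = 1 by omega] at this
      have := Nat.le_of_dvd one_pos h1'
      omega
  · refine hu'1 (eq_one_of_sq_of_odd (e.injective ?_) (hou ▸ huodd))
    rw [map_mul, map_one]
    exact a4_no_inv (e u') (e x') (by rw [← map_inv, ← map_mul, ← map_mul, hxu', map_inv])
  · have h3' : ∀ y : K, Odd (orderOf y) → (e y) ^ 3 = 1 := by
      intro y hy
      rcases s4_odd (e y) with h | h
      · exact h
      · have h' : y * y * (y * y) = 1 := e.injective (by rw [map_mul, map_mul, map_one, h])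
        have hd : orderOf y ∣ 2 ^ 2 := orderOf_dvd_of_pow_eq_one (by
          rw [show (2:ℕ) ^ 2 = 2 + 2 from rfl, pow_add, pow_two, h'])
        have h1 : orderOf y = 1 :=
          Nat.eq_one_of_dvd_coprimes (Nat.Coprime.pow_left 2 (Nat.coprime_two_left.mpr hy)) hd dvd_rfl
        rw [orderOf_eq_one_iff.mp h1, map_one, one_pow]
    refine s4_word (e u') (e w') (h3' u' (hou ▸ huodd)) (h3' w' (how ▸ hwodd))
      (fun h => hu'1 (e.injective (h.trans (map_one e).symm))) (fun h => hw'1 (e.injective (h.trans (map_one e).symm)))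
      (fun h => huw' (by rw [e.injective h]))
      (fun h => huw' (by rw [← map_inv] at h; rw [e.injective h, mul_inv_cancel, inv_mul_cancel])) ?_
    rw [← map_inv, ← map_mul, ← map_mul]
    exact word_iff e (γ := act g) (by show act g (u * w) = u * w⁻¹; rw [map_mul, hαu, hαw]) 2
  · have hcard : 60 ∣ Nat.card PSL := by
      have := Subgroup.card_subgroup_dvd_card K
      rwa [Nat.card_congr e.toEquiv, CfsgLib.PSL2Max.card_a5] at this
    have hPSL := CfsgLib.MinNonCA.card_PSL_two (F := F) hodd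
    have hcase : ∀ y : K, orderOf y = orderOf u → (e y) ^ 5 = 1 := by
      intro y hy
      rcases a5_odd (e y) with h | h | h
      · exfalso
        have h' : y ^ 3 = 1 := e.injective (by rw [map_pow, map_one, h])
        have hd := orderOf_dvd_of_pow_eq_one h'
        rw [hy] at hd
        rcases (Nat.dvd_prime Nat.prime_three).mp hd with h1 | h1
        · exact hu1 (orderOf_eq_one_iff.mp h1)
        · rw [h1] at huo
          have hq : q = 5 ∨ q = 7 := by
            unfold qp at huo; split at huo <;> omega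
          rcases hq with hq | hq <;> rw [hq] at hPSL
          · refine hgen (Subgroup.eq_top_of_card_eq _ ?_)
            rw [Nat.card_congr e.toEquiv, CfsgLib.PSL2Max.card_a5]
            omega
          · omega
      · exact h
      · exfalso
        have h' : y * y = 1 := e.injective (by rw [map_mul, map_one, h])
        rw [eq_one_of_sq_of_odd h' (hy ▸ huodd), orderOf_one] at hy
        exact hu1 (orderOf_eq_one_iff.mp hy.symm)
    have hsq : act g (u * u) = u * u := by rw [map_mul, hαu]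
    rcases a5_word (e u') (e w') (hcase u' hou) (fun h => hu'1 (e.injective (h.trans (map_one e).symm)))
      (hcase w' (by omega)) (fun h => hw'1 (e.injective (h.trans (map_one e).symm))) with h | h | h | h | h
    · exact huw' (e.injective (by rw [map_mul, map_mul, h]))
    all_goals
      refine h ?_
      simp only [← map_inv, ← map_mul]
      refine word_iff e (γ := act g) ?_ _
    · show act g (u * w) = u * w⁻¹; rw [map_mul, hαu, hαw]
    · show act g (u * w) = u * w⁻¹; rw [map_mul, hαu, hαw]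
    · show act g (u * u * w) = u * u * w⁻¹; rw [map_mul, hsq, hαw]
    · show act g (u * u * w) = u * u * w⁻¹; rw [map_mul, hsq, hαw]
  · set k := Fintype.card F0 with hk
    have hk1 : 1 < k := Fintype.one_lt_card
    have hkodd : Odd k := by
      rcases Nat.eq_zero_or_pos r with h0 | h0
      · rw [h0, pow_zero] at hr; omega
      · exact (Nat.odd_pow_iff h0.ne').mp (hr ▸ hodd)
    have hk3 : 3 ≤ k := by obtain ⟨i, hi⟩ := hkodd; omega
    have hKdvd : Nat.card K ∣ k * (k ^ 2 - 1) := by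
      rcases hiso with ⟨⟨e⟩⟩ | ⟨⟨e⟩⟩
      · rw [Nat.card_congr e.toEquiv, hk, ← CfsgLib.MinNonCA.card_PSL_two hkodd]
        exact dvd_mul_left _ _
      · rw [Nat.card_congr e.toEquiv, card_pgl_two, hk]
    have hmd : orderOf u ∣ k * (k ^ 2 - 1) := (hou ▸ orderOf_dvd_natCard u').trans hKdvd
    rcases r with _ | _ | r
    · rw [pow_zero] at hr; omega
    · rw [zero_add, pow_one] at hr
      have hPSL := CfsgLib.MinNonCA.card_PSL_two (F := F) hodd
      rcases hiso with ⟨⟨e⟩⟩ | ⟨⟨e⟩⟩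
      · refine hgen (Subgroup.eq_top_of_card_eq _ ?_)
        rw [Nat.card_congr e.toEquiv]
        refine Nat.eq_of_mul_eq_mul_left two_pos ?_
        rw [CfsgLib.MinNonCA.card_PSL_two hkodd, hPSL, ← hk, hr]
      · have hle := Subgroup.card_le_card_group K
        rw [Nat.card_congr e.toEquiv, card_pgl_two, ← hk, hr, ← hPSL] at hle
        have : 0 < Nat.card PSL := Nat.card_pos
        omega
    · set m := orderOf u with hm
      have hcop : Nat.Coprime m k := by
        rw [Nat.coprime_comm]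
        refine Nat.Coprime.coprime_dvd_left (hr ▸ dvd_pow_self k (Nat.succ_ne_zero _) : k ∣ q) ?_
        refine Nat.Coprime.coprime_dvd_right (Dvd.intro_left 2 huo : m ∣ qp F) ?_
        unfold qp
        split
        · simp
        · have h1 := Nat.coprime_self_sub_right (show 1 ≤ q by omega)
          exact h1.mpr (Nat.coprime_one_right q)
      have hd := Nat.Coprime.dvd_of_dvd_mul_left hcop hmd
      have hk2 : 9 ≤ k ^ 2 := by rw [pow_two]; exact le_trans (by norm_num) (Nat.mul_le_mul hk3 hk3)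
      rcases Nat.eq_zero_or_pos r with rfl | hr0
      · have hq4 : q % 4 = 1 := by
          rw [← hr]
          obtain ⟨i, hi⟩ := hkodd
          rw [hi, show (2 * i + 1) ^ (0 + 1 + 1) = 4 * (i * i + i) + 1 by ring]
          omega
        have hqp : qp F = q + 1 := by rw [qp, if_pos hq4]
        rw [show (0 + 1 + 1) = 2 from rfl] at hr
        rw [hqp, ← hr] at huo
        have h2' : m ∣ 2 := by
          have := Nat.dvd_sub (Dvd.intro_left 2 huo : m ∣ k ^ 2 + 1) hd
          rwa [show k ^ 2 + 1 - (k ^ 2 - 1) = 2 by omega] at this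
        have := Nat.le_of_dvd two_pos h2'
        omega
      · have h3r : k ^ 3 ≤ q := by rw [← hr]; exact Nat.pow_le_pow_right (by omega) (by omega)
        have h3k : 3 * k ^ 2 ≤ k ^ 3 := by rw [pow_succ k 2, mul_comm]; exact Nat.mul_le_mul_left _ hk3
        have := Nat.le_of_dvd (by omega) hd
        omega

end PSL2

end CfsgLib.GWConseq
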