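import Cfsg.Agent.Lib.GW.Conseq.Basic
import Cfsg.Agent.Lib.SLCard
import Cfsg.Agent.S2117
import Cfsg.Agent.S2118
import Cfsg.Prelude.Def_KGroupFacts

/-!
A perfect double cover of `PSL(2,q)`, `q` odd, is `SL(2,q)`.
-/

set_option autoImplicit false
set_option linter.unusedSectionVars false

namespace CfsgLib.GWConseq

open Cfsg
open scoped commutatorElement

universe u

theorem exists_type_copy (X : Type u) [Group X] [Finite X] :
    ∃ (X₀ : Type) (_ : Group X₀) (_ : Finite X₀), Nonempty (X₀ ≃* X) := by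
  let e : Fin (Nat.card X) ≃ X := (Finite.equivFin X).symm
  letI : Group (Fin (Nat.card X)) := e.group
  exact ⟨Fin (Nat.card X), inferInstance, inferInstance, ⟨e.mulEquiv⟩⟩

section PSL

variable {F : Type} [Field F] [Fintype F]

theorem stem_ker_trivial (hodd : Odd (Fintype.card F)) {D : Type} [Group D] [Finite D]
    (σ : D →* Matrix.SpecialLinearGroup (Fin 2) F) (hσ : IsStemExtension σ) (h2 : ∀ d ∈ σ.ker, d ^ 2 = 1) :
    σ.ker = ⊥ := by
  obtain ⟨n, hn, π, hπ⟩ : ∃ n, Odd n ∧ ∃ π : Multiplicative (ZMod n) →* σ.ker, Function.Surjective π := by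
    by_cases h9 : Fintype.card F = 9
    · exact ⟨3, by decide, (Cfsg.Agent.S2118.result h9).2 D σ hσ⟩
    · exact ⟨1, odd_one, (Cfsg.Agent.S2117.result (fun h => by rw [h] at hodd; exact absurd hodd (by decide)) h9).2
        D σ hσ⟩
  rw [Subgroup.eq_bot_iff_forall]
  intro d hd
  obtain ⟨a, ha⟩ := hπ ⟨d, hd⟩
  have hdn : d ^ n = 1 := by
    have hna : a ^ n = 1 := by
      apply Multiplicative.toAdd.injective
      rw [toAdd_pow, nsmul_eq_mul, ZMod.natCast_self, zero_mul, toAdd_one]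
    have := congrArg π hna
    rw [map_pow, ha, map_one] at this
    exact congrArg Subtype.val this
  obtain ⟨j, hj⟩ := hn
  rw [hj, pow_succ, pow_mul, h2 d hd, one_pow, one_mul] at hdn
  exact hdn

theorem double_cover_aux {X : Type} [Group X] [Finite X] [Group.IsPerfect X] (hodd : Odd (Fintype.card F))
    (h3 : 3 < Fintype.card F) (Z : Subgroup X) [Z.Normal] (hZ : Nat.card Z = 2) (hZc : Z ≤ Subgroup.center X)
    (e : X ⧸ Z ≃* Matrix.ProjectiveSpecialLinearGroup (Fin 2) F) :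
    Nonempty (X ≃* Matrix.SpecialLinearGroup (Fin 2) F) := by
  classical
  set φ : X →* Matrix.ProjectiveSpecialLinearGroup (Fin 2) F := e.toMonoidHom.comp (QuotientGroup.mk' Z) with hφdef
  have hφ : Function.Surjective φ := e.surjective.comp (QuotientGroup.mk'_surjective Z)
  have hφk : ∀ x, φ x = 1 ↔ x ∈ Z := fun x => by
    rw [hφdef, MonoidHom.comp_apply, MulEquiv.coe_toMonoidHom, MulEquiv.map_eq_one_iff, QuotientGroup.mk'_apply,
      QuotientGroup.eq_one_iff]
  set π := QuotientGroup.mk' (Subgroup.center (Matrix.SpecialLinearGroup (Fin 2) F)) with hπdef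
  have hπ : Function.Surjective π := QuotientGroup.mk'_surjective _
  have hπk : ∀ y, π y = 1 ↔ y ∈ Subgroup.center (Matrix.SpecialLinearGroup (Fin 2) F) := fun y => by
    rw [hπdef, QuotientGroup.mk'_apply, QuotientGroup.eq_one_iff]
  let P : Subgroup (X × Matrix.SpecialLinearGroup (Fin 2) F) :=
    MonoidHom.eqLocus (φ.comp (MonoidHom.fst X _)) (π.comp (MonoidHom.snd X _))
  let p₁ : P →* X := (MonoidHom.fst X _).comp P.subtype
  let p₂ : P →* Matrix.SpecialLinearGroup (Fin 2) F := (MonoidHom.snd X _).comp P.subtype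
  have hp₁ : Function.Surjective p₁ := fun x => by
    obtain ⟨y, hy⟩ := hπ (φ x)
    exact ⟨⟨(x, y), hy.symm⟩, rfl⟩
  have hp₂ : Function.Surjective p₂ := fun y => by
    obtain ⟨x, hx⟩ := hφ (π y)
    exact ⟨⟨(x, y), hx⟩, rfl⟩
  have hperfSL : commutator (Matrix.SpecialLinearGroup (Fin 2) F) = ⊤ :=
    CfsgLib.StSL.perfect_SL2 (by omega)
  have hcent : ∀ c : P, p₁ c = 1 → c ∈ Subgroup.center P := by
    rintro ⟨⟨x, y⟩, hxy⟩ (hx : x = 1)
    subst hx
    have hy : y ∈ Subgroup.center _ := (hπk y).mp (by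
      have : φ 1 = π y := hxy
      rw [← this, map_one])
    rw [Subgroup.mem_center_iff]
    rintro ⟨⟨a, b⟩, hab⟩
    exact Subtype.ext (Prod.ext ((mul_one a).trans (one_mul a).symm) (Subgroup.mem_center_iff.mp hy b))
  set D := commutator P with hD
  have hD₁ : D.map p₁ = ⊤ := by
    rw [hD, commutator_def, Subgroup.map_commutator, ← MonoidHom.range_eq_map, MonoidHom.range_eq_top.mpr hp₁,
      ← commutator_def, Group.IsPerfect.commutator_eq_top]
  have hD₂ : D.map p₂ = ⊤ := by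
    rw [hD, commutator_def, Subgroup.map_commutator, ← MonoidHom.range_eq_map, MonoidHom.range_eq_top.mpr hp₂,
      ← commutator_def, hperfSL]
  have hDD : ⁅D, D⁆ = D := by
    refine le_antisymm (Subgroup.commutator_le_self D) ?_
    conv_lhs => rw [hD, commutator_def]
    rw [Subgroup.commutator_le]
    intro a _ b _
    have split : ∀ p : P, ∃ d ∈ D, ∃ c ∈ Subgroup.center P, p = d * c := fun p => by
      obtain ⟨d, hd, hdp⟩ := (hD₁ ▸ Subgroup.mem_top (p₁ p) : p₁ p ∈ D.map p₁)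
      exact ⟨d, hd, d⁻¹ * p, hcent _ (by rw [map_mul, map_inv, hdp, inv_mul_cancel]), (mul_inv_cancel_left d p).symm⟩
    obtain ⟨d, hd, c, hc, rfl⟩ := split a
    obtain ⟨d', hd', c', hc', rfl⟩ := split b
    have : ⁅d * c, d' * c'⁆ = ⁅d, d'⁆ := by
      have hc1 := Subgroup.mem_center_iff.mp hc
      have hc2 := Subgroup.mem_center_iff.mp hc'
      rw [commutatorElement_def, commutatorElement_def]
      calc d * c * (d' * c') * (d * c)⁻¹ * (d' * c')⁻¹
          = d * (c * (d' * c') * c⁻¹) * d⁻¹ * (d' * c')⁻¹ := by group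
        _ = d * (d' * c') * d⁻¹ * (d' * c')⁻¹ := by rw [← hc1 (d' * c'), mul_inv_cancel_right]
        _ = d * d' * (c' * d⁻¹ * c'⁻¹) * d'⁻¹ := by group
        _ = d * d' * d⁻¹ * d'⁻¹ := by rw [← hc2 d⁻¹, mul_inv_cancel_right]
    rw [this]
    exact Subgroup.commutator_mem_commutator hd hd'
  have hDperf : commutator D = ⊤ := by
    apply Subgroup.map_injective D.subtype_injective
    rw [Subgroup.map_subtype_commutator, hDD, ← MonoidHom.range_eq_map, Subgroup.range_subtype]
  set σ : D →* Matrix.SpecialLinearGroup (Fin 2) F := p₂.comp D.subtype with hσdef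
  have hσs : Function.Surjective σ := fun y => by
    obtain ⟨d, hd, rfl⟩ := (hD₂ ▸ Subgroup.mem_top y : y ∈ D.map p₂)
    exact ⟨⟨d, hd⟩, rfl⟩
  have hker : ∀ d ∈ σ.ker, p₂ (d : P) = 1 ∧ p₁ (d : P) ∈ Z := fun d hd => by
    have h2 : p₂ (d : P) = 1 := hd
    refine ⟨h2, (hφk _).mp ?_⟩
    have := (d : P).2
    change φ (p₁ (d : P)) = π (p₂ (d : P)) at this
    rw [this, h2, map_one]
  have hstem : IsStemExtension σ := by
    refine ⟨hσs, fun d hd => ?_, hDperf ▸ le_top⟩
    obtain ⟨h2, h1⟩ := hker d hd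
    rw [Subgroup.mem_center_iff]
    intro g
    refine Subtype.ext (Subtype.ext (Prod.ext ?_ ?_))
    · exact Subgroup.mem_center_iff.mp (hZc h1) (p₁ (g : P))
    · show p₂ (g : P) * p₂ (d : P) = p₂ (d : P) * p₂ (g : P)
      rw [h2, mul_one, one_mul]
  have hbot : σ.ker = ⊥ := stem_ker_trivial hodd σ hstem fun d hd => by
    obtain ⟨h2, h1⟩ := hker d hd
    have h1' : p₁ (d : P) ^ 2 = 1 := by
      have hp := congrArg Subtype.val (pow_card_eq_one' (x := (⟨_, h1⟩ : Z)))
      rw [hZ] at hp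
      exact hp
    refine Subtype.ext (Subtype.ext (Prod.ext ?_ ?_))
    · exact h1'
    · show p₂ (d : P) ^ 2 = 1
      rw [h2, one_pow]
  let eσ : D ≃* Matrix.SpecialLinearGroup (Fin 2) F :=
    MulEquiv.ofBijective σ ⟨(MonoidHom.ker_eq_bot_iff _).mp hbot, hσs⟩
  set τ : Matrix.SpecialLinearGroup (Fin 2) F →* X := (p₁.comp D.subtype).comp eσ.symm.toMonoidHom with hτdef
  have hτs : Function.Surjective τ := by
    intro x
    obtain ⟨d, hd, rfl⟩ := (hD₁ ▸ Subgroup.mem_top x : x ∈ D.map p₁)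
    exact ⟨eσ ⟨d, hd⟩, by simp [hτdef]⟩
  have hcard : Nat.card (Matrix.SpecialLinearGroup (Fin 2) F) = Nat.card X := by
    have h1 := CfsgLib.SLCard.gcd_mul_card_PSL (F := F) (n := 2) (by norm_num)
    obtain ⟨j, hj⟩ := hodd
    rw [Nat.gcd_eq_left (show 2 ∣ Fintype.card F - 1 from ⟨j, by omega⟩)] at h1
    rw [← h1, Subgroup.card_eq_card_quotient_mul_card_subgroup Z, hZ, Nat.card_congr e.toEquiv, mul_comm]
  exact ⟨(MulEquiv.ofBijective τ ((Nat.bijective_iff_surjective_and_card τ).mpr ⟨hτs, hcard⟩)).symm⟩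

/-- A perfect double cover of `PSL(2,q)`, `q > 3` odd, is `SL(2,q)`. -/
theorem double_cover_PSL {X : Type u} [Group X] [Finite X] [Group.IsPerfect X] (hodd : Odd (Fintype.card F))
    (h3 : 3 < Fintype.card F) (Z : Subgroup X) [Z.Normal] (hZ : Nat.card Z = 2) (hZc : Z ≤ Subgroup.center X)
    (e : X ⧸ Z ≃* Matrix.ProjectiveSpecialLinearGroup (Fin 2) F) :
    Nonempty (X ≃* Matrix.SpecialLinearGroup (Fin 2) F) := by
  obtain ⟨X₀, _, _, ⟨t⟩⟩ := exists_type_copy X
  haveI : Group.IsPerfect X₀ := Group.IsPerfect.ofSurjective (f := t.symm.toMonoidHom) t.symm.surjective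
  haveI : (Z.comap t.toMonoidHom).Normal := ‹Z.Normal›.comap _
  have hmap : (Z.comap t.toMonoidHom).map (↑t : X₀ →* X) = Z :=
    Subgroup.map_comap_eq_self_of_surjective t.surjective Z
  obtain ⟨r⟩ := double_cover_aux hodd h3 (Z.comap t.toMonoidHom)
    ((Nat.card_congr (((Z.comap t.toMonoidHom).equivMapOfInjective (↑t : X₀ →* X) t.injective).trans
      (MulEquiv.subgroupCongr hmap)).toEquiv).trans hZ)
    (fun x hx => Subgroup.mem_center_iff.mpr fun g => t.injective (by
      rw [map_mul, map_mul]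
      exact Subgroup.mem_center_iff.mp (hZc hx) (t g)))
    ((QuotientGroup.congr _ Z t hmap).trans e)
  exact ⟨t.symm.trans r⟩

end PSL

end CfsgLib.GWConseq
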