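import Cfsg.Agent.Lib.GW.Conseq.DoubleCover
import Cfsg.Agent.S0201
import Cfsg.Agent.Lib.QuaternionSection
import Cfsg.Prelude.Def_SporadicB

/-!
Perfect groups of 2-rank one, from the Gorenstein–Walter theorem.
-/

set_option autoImplicit false
set_option linter.unusedSectionVars false

namespace CfsgLib.GWConseq

open Cfsg CfsgLib.GW

universe u

variable {X : Type u} [Group X] [Finite X]

/-- The conclusion for perfect groups with quaternion Sylow 2-subgroups and trivial core. -/
theorem quaternion_core_free (hGW : GWThm.{u}) [Group.IsPerfect X] (hO : oddCore X = ⊥) (S : Sylow 2 X) {m : ℕ}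
    (hm : 1 ≤ m) (e : (S : Subgroup X) ≃* QuaternionGroup (2 ^ m)) :
    Nat.card (Subgroup.center X) = 2 ∧
    ((∃ (F : Type) (_ : Field F) (_ : Fintype F), Odd (Fintype.card F) ∧ 3 < Fintype.card F ∧
        Nonempty (X ≃* Matrix.SpecialLinearGroup (Fin 2) F)) ∨
      IsNonsplitDoubleCover X ↥(alternatingGroup (Fin 7))) := by
  haveI : NeZero (2 ^ m) := ⟨pow_ne_zero _ two_ne_zero⟩
  obtain ⟨k, rfl⟩ := Nat.exists_eq_add_of_le' hm
  have hZ : Nat.card (Subgroup.center X) = 2 := Cfsg.Agent.S0201.result S k e fun N hN hodd => by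
    haveI := hN
    exact le_bot_iff.mp (hO ▸ CfsgLib.le_oddCore hodd)
  refine ⟨hZ, ?_⟩
  have hu : CfsgLib.Frob.UniqSub 2 (S : Subgroup X) := by
    intro H K hH hK
    have h := CfsgLib.QuatSection.uniqSub_quaternion (k + 1) (H.map e.toMonoidHom) (K.map e.toMonoidHom)
      ((Nat.card_congr (H.equivMapOfInjective e.toMonoidHom e.injective).toEquiv).symm.trans hH)
      ((Nat.card_congr (K.equivMapOfInjective e.toMonoidHom e.injective).toEquiv).symm.trans hK)
    exact Subgroup.map_injective (f := e.toMonoidHom) e.injective h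
  haveI : Group.IsPerfect (X ⧸ Subgroup.center X) :=
    Group.IsPerfect.ofSurjective (f := QuotientGroup.mk' (Subgroup.center X)) (QuotientGroup.mk'_surjective _)
  rcases hGW.model (dihedral_quotient (Subgroup.center X) hZ S hm hu e)
      (core_quotient_central hO _ hZ le_rfl) with ⟨F, hF, hFt, hodd, h3, ⟨f⟩⟩ | ⟨⟨f⟩⟩
  · exact Or.inl ⟨F, hF, hFt, hodd, h3, double_cover_PSL hodd h3 _ hZ le_rfl f⟩
  · exact Or.inr ⟨hZ, ⟨f⟩, fun L hL => index_ne_two L (hL.index_eq_card.trans hZ)⟩

/-- Perfect groups of 2-rank one modulo their cores. -/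
theorem rank_one (hGW : GWThm.{u}) [Group.IsPerfect X] (h1 : PRankLE 2 1 X) (h2 : Even (Nat.card X)) :
    (∃ (F : Type) (_ : Field F) (_ : Fintype F), Odd (Fintype.card F) ∧ 3 < Fintype.card F ∧
        Nonempty (X ⧸ oddCore X ≃* Matrix.SpecialLinearGroup (Fin 2) F)) ∨
      IsNonsplitDoubleCover (X ⧸ oddCore X) ↥(alternatingGroup (Fin 7)) := by
  haveI : Fact (Nat.Prime 2) := ⟨Nat.prime_two⟩
  obtain ⟨S⟩ : Nonempty (Sylow 2 X) := inferInstance
  rcases sylow_shape h1 S with hc | ⟨m, hm, ⟨e⟩⟩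
  · exfalso
    have hb := sylow_eq_bot_of_cyclic S hc
    have h := S.not_dvd_index
    rw [hb, Subgroup.index_bot] at h
    exact h (even_iff_two_dvd.mp h2)
  · haveI : Group.IsPerfect (X ⧸ oddCore X) :=
      Group.IsPerfect.ofSurjective (f := QuotientGroup.mk' (oddCore X)) (QuotientGroup.mk'_surjective _)
    obtain ⟨j⟩ := sylow_quotient_odd (oddCore X) CfsgLib.odd_card_oddCore S
    exact (quaternion_core_free hGW (CfsgLib.pPrimeCore_quotient_eq_bot 2) _ hm (j.symm.trans e)).2

end CfsgLib.GWConseq
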