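import Cfsg.Agent.Lib.GW.Conseq.RankOne
import Cfsg.Agent.Lib.GW.Hyp
import Cfsg.Agent.Lib.SLCard
import Cfsg.Agent.S0205
import Cfsg.Agent.Lib.AfterFT.MetacyclicSylowTwo

/-!
Quaternion Sylow 2-subgroups with cyclic intersections, from the Gorenstein–Walter theorem.

* `sylow_q8`: the Sylow 2-subgroups are quaternion of order eight.
* `perfect_part`: for trivial core, the last derived term is `SL(2,q)` with `q ≡ 3, 5 (mod 8)`, of odd index.
* `quat_inter`: the statement for arbitrary groups.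
-/

set_option autoImplicit false
set_option linter.unusedSectionVars false

namespace CfsgLib.GWConseq

open Cfsg CfsgLib.GW
open scoped Pointwise

universe u

variable {X : Type u} [Group X] [Finite X]

/-- Non-solvable with quaternion Sylow 2-subgroups and cyclic intersections: order eight. -/
theorem sylow_q8 (hns : ¬ Group.IsSolvable X)
    (hQ : ∀ S : Sylow 2 X, ∃ n : ℕ, Nonempty ((S : Subgroup X) ≃* QuaternionGroup (2 ^ (n + 1))))
    (hC : ∀ S T : Sylow 2 X, S ≠ T → IsCyclic ↥((S : Subgroup X) ⊓ (T : Subgroup X))) (P : Sylow 2 X) :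
    Nonempty ((P : Subgroup X) ≃* QuaternionGroup 2) := by
  haveI : Fact (Nat.Prime 2) := ⟨Nat.prime_two⟩
  have hno : ¬ CfsgLib.FrobeniusCond 2 X := fun h => hns
    (CfsgLib.AfterFT.Metacyclic.solvable_of_complement (fun H _ _ hH => Cfsg.Agent.S0205.result hH)
      (CfsgLib.hasNormalPComplement_iff_frobeniusCond.2 h))
  simp only [CfsgLib.FrobeniusCond, not_forall] at hno
  obtain ⟨Q, hQ2, g, hg, hgp, hgC⟩ := hno
  obtain ⟨S, hS⟩ := hQ2.exists_le_sylow
  obtain ⟨n, ⟨e⟩⟩ := hQ S
  have hSu : CfsgLib.Frob.UniqSub 2 (S : Subgroup X) :=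
    CfsgLib.QuatSection.uniqSub_of_equiv e (CfsgLib.QuatSection.uniqSub_quaternion _)
  have hodd : Odd (orderOf g) := Nat.coprime_two_right.1 hgp
  have hgS : g ∈ Subgroup.normalizer ((S : Subgroup X) : Set X) := by
    refine Sylow.smul_eq_iff_mem_normalizer.1 ?_
    by_contra hne
    haveI := hC _ _ (Ne.symm hne)
    have hle : Q ≤ (S : Subgroup X) ⊓ ((g • S : Sylow 2 X) : Subgroup X) := fun x hx => ⟨hS hx, by
      show x ∈ MulAut.conj g • (S : Subgroup X)
      rw [Subgroup.mem_pointwise_smul_iff_inv_smul_mem]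
      refine hS ?_
      simpa [MulAut.smul_def] using (Subgroup.mem_normalizer_iff.1 (inv_mem hg) x).1 hx⟩
    haveI : IsCyclic Q := isCyclic_of_injective (Subgroup.inclusion hle) (Subgroup.inclusion_injective hle)
    exact hgC (Subgroup.mem_centralizer_iff.2 fun c hc =>
      (mul_inv_eq_iff_eq_mul.1 (CfsgLib.LocalFusion.fix_cyclic hQ2 hg hodd c hc)).symm)
  obtain ⟨e8⟩ := CfsgLib.QuatSection.q8_of_moved S.2 hSu hgS
    (fun h => hgC (Subgroup.centralizer_le (fun x hx => hS hx) h)) hodd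
  exact ⟨(Sylow.equiv P S).trans e8⟩

/-- Trivial core: the perfect part. -/
theorem perfect_part (hGW : GWThm.{u}) (hns : ¬ Group.IsSolvable X) (hO : oddCore X = ⊥) (S : Sylow 2 X)
    (e : (S : Subgroup X) ≃* QuaternionGroup 2) :
    ∃ L : Subgroup X, L.Normal ∧ Odd L.index ∧
      ∃ (F : Type) (_ : Field F) (_ : Fintype F), (Fintype.card F % 8 = 3 ∨ Fintype.card F % 8 = 5) ∧
        3 < Fintype.card F ∧ Nonempty (L ≃* Matrix.SpecialLinearGroup (Fin 2) F) := by
  haveI : Fact (Nat.Prime 2) := ⟨Nat.prime_two⟩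
  obtain ⟨k, hk⟩ := exists_perfect_derived X
  set L := derivedSeries X k with hL
  haveI := hk
  haveI : L.Normal := derivedSeries_normal _ k
  have hLne : L ≠ ⊥ := fun h => hns (Group.isSolvable_def X |>.2 ⟨k, h⟩)
  have hOL : oddCore L = ⊥ := by
    rw [← Subgroup.map_eq_bot_iff_of_injective _ L.subtype_injective, eq_bot_iff, ← hO]
    refine CfsgLib.le_oddCore ?_
    rw [Subgroup.card_map_of_injective L.subtype_injective]
    exact CfsgLib.odd_card_oddCore
  obtain ⟨P⟩ : Nonempty (Sylow 2 L) := inferInstance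
  have hne : (P : Subgroup L) ≠ ⊥ := fun h => hLne (by
    have h1 := P.not_dvd_index
    rw [h, Subgroup.index_bot] at h1
    haveI := subsingleton_of_odd (X := L) (by rw [← Nat.not_even_iff_odd, even_iff_two_dvd]; exact h1)
    exact Subgroup.eq_bot_of_subsingleton L)
  obtain ⟨g, hg⟩ := CfsgLib.DihedralFusion.exists_conj_le (S := S) (P.2.map L.subtype)
  set j : (P : Subgroup L) →* (S : Subgroup X) :=
    (((MulAut.conj g).toMonoidHom.comp L.subtype).comp (P : Subgroup L).subtype).codRestrict _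
      fun x => hg ⟨(x : L), ⟨x, x.2, rfl⟩, rfl⟩ with hj
  have hjinj : Function.Injective j := fun a b h => by
    have h' := (MulAut.conj g).injective (congrArg Subtype.val h)
    exact Subtype.ext (Subtype.ext h')
  have hS8 : Nat.card (S : Subgroup X) = 8 := by
    rw [Nat.card_congr e.toEquiv, Nat.card_eq_fintype_card, QuaternionGroup.card]
  have hPu : CfsgLib.Frob.UniqSub 2 (P : Subgroup L) := by
    intro H K hH hK
    have hSu : CfsgLib.Frob.UniqSub 2 (S : Subgroup X) :=
      CfsgLib.QuatSection.uniqSub_of_equiv e (by simpa using CfsgLib.QuatSection.uniqSub_quaternion 1)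
    exact Subgroup.map_injective (f := j) hjinj (hSu _ _ (by rw [Subgroup.card_map_of_injective hjinj, hH])
      (by rw [Subgroup.card_map_of_injective hjinj, hK]))
  obtain ⟨eP⟩ : Nonempty ((P : Subgroup L) ≃* QuaternionGroup 2) := by
    rcases CfsgLib.Frob.cyclic_or_quaternion_two P.2 hPu with hc | ⟨m, ⟨f⟩⟩
    · exact absurd (sylow_eq_bot_of_cyclic P hc) hne
    · have h1 := Nat.card_le_card_of_injective j hjinj
      rw [Nat.card_congr f.toEquiv, Nat.card_eq_fintype_card, QuaternionGroup.card, hS8] at h1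
      rcases (show m = 0 ∨ m = 1 from by
        by_contra hm
        have := Nat.pow_le_pow_right two_pos (show 2 ≤ m by omega)
        omega) with rfl | rfl
      · haveI : IsCyclic (QuaternionGroup (2 ^ 0)) := QuaternionGroup.quaternionGroup_one_isCyclic
        exact absurd (sylow_eq_bot_of_cyclic P (f.isCyclic.mpr inferInstance)) hne
      · exact ⟨f⟩
  have h8 : Nat.card (P : Subgroup L) = 8 := by
    rw [Nat.card_congr eP.toEquiv, Nat.card_eq_fintype_card, QuaternionGroup.card]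
  have hidx : Odd L.index := by
    rw [← Nat.not_even_iff_odd, even_iff_two_dvd]
    intro h2
    have hd : 16 ∣ Nat.card X := by
      rw [← Subgroup.card_mul_index L]
      exact Nat.mul_dvd_mul (h8 ▸ (P : Subgroup L).card_subgroup_dvd_card) h2
    rw [← (S : Subgroup X).card_mul_index, hS8] at hd
    exact S.not_dvd_index (Nat.dvd_of_mul_dvd_mul_left (by norm_num : 0 < 8) hd)
  have hL16 : ¬ 16 ∣ Nat.card L := fun h => by
    rw [← (P : Subgroup L).card_mul_index, h8] at h
    exact P.not_dvd_index (Nat.dvd_of_mul_dvd_mul_left (by norm_num : 0 < 8) h)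
  obtain ⟨-, ⟨F, hF, hFt, hodd, h3, ⟨f⟩⟩ | hA7⟩ := quaternion_core_free hGW hOL P (m := 1) le_rfl eP
  · refine ⟨L, inferInstance, hidx, F, hF, hFt, ?_, h3, ⟨f⟩⟩
    have hc := CfsgLib.SLCard.card_SL_two (F := F)
    rw [← Nat.card_congr f.toEquiv] at hc
    obtain ⟨a, ha⟩ := hodd
    by_contra hmod
    push Not at hmod
    refine hL16 ?_
    rw [hc]
    have h16 : 16 ∣ Fintype.card F ^ 2 - 1 := by
      obtain ⟨c, hc' | hc'⟩ : ∃ c, Fintype.card F = 8 * c + 1 ∨ Fintype.card F = 8 * c + 7 :=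
        ⟨Fintype.card F / 8, by omega⟩
      · exact ⟨4 * c ^ 2 + c, by rw [hc']; ring_nf; omega⟩
      · exact ⟨4 * c ^ 2 + 7 * c + 3, by rw [hc']; ring_nf; omega⟩
    exact h16.mul_left _
  · exfalso
    refine hL16 ?_
    obtain ⟨h2, ⟨f⟩, -⟩ := hA7
    rw [← Subgroup.card_mul_index (Subgroup.center L), h2, Subgroup.index, Nat.card_congr f.toEquiv,
      nat_card_alternatingGroup, Nat.card_fin]
    decide

/-- The statement for arbitrary groups. -/
theorem quat_inter (hGW : GWThm.{u}) (hns : ¬ Group.IsSolvable X)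
    (hQ : ∀ S : Sylow 2 X, ∃ n : ℕ, Nonempty ((S : Subgroup X) ≃* QuaternionGroup (2 ^ (n + 1))))
    (hC : ∀ S T : Sylow 2 X, S ≠ T → IsCyclic ↥((S : Subgroup X) ⊓ (T : Subgroup X))) :
    (∀ S : Sylow 2 X, Nonempty ((S : Subgroup X) ≃* QuaternionGroup 2)) ∧
    ∃ (G₁ : Subgroup X) (_ : G₁.Normal) (_ : ((oddCore X).subgroupOf G₁).Normal),
      Odd G₁.index ∧ oddCore X ≤ G₁ ∧
      ∃ (F : Type) (_ : Field F) (_ : Fintype F), (Fintype.card F % 8 = 3 ∨ Fintype.card F % 8 = 5) ∧
        3 < Fintype.card F ∧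
        Nonempty (↥G₁ ⧸ (oddCore X).subgroupOf G₁ ≃* Matrix.SpecialLinearGroup (Fin 2) F) := by
  haveI : Fact (Nat.Prime 2) := ⟨Nat.prime_two⟩
  refine ⟨fun S => sylow_q8 hns hQ hC S, ?_⟩
  obtain ⟨S⟩ : Nonempty (Sylow 2 X) := inferInstance
  obtain ⟨e⟩ := sylow_q8 hns hQ hC S
  obtain ⟨j⟩ := sylow_quotient_odd (oddCore X) CfsgLib.odd_card_oddCore S
  have hnsq : ¬ Group.IsSolvable (X ⧸ oddCore X) := fun h => hns (by
    haveI := h
    haveI : Group.IsSolvable (oddCore X) := Cfsg.Agent.S0205.result CfsgLib.odd_card_oddCore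
    exact Group.isSolvable_of_ker_le_range (oddCore X).subtype (QuotientGroup.mk' (oddCore X))
      (by simp))
  obtain ⟨L, hLn, hLi, F, hF, hFt, hq, h3, ⟨f⟩⟩ :=
    perfect_part hGW hnsq (CfsgLib.pPrimeCore_quotient_eq_bot 2) _ (j.symm.trans e)
  haveI := hLn
  set G₁ := L.comap (QuotientGroup.mk' (oddCore X)) with hG₁
  have hle : oddCore X ≤ G₁ := by
    intro x hx
    rw [hG₁, Subgroup.mem_comap, QuotientGroup.mk'_apply, (QuotientGroup.eq_one_iff x).2 hx]
    exact one_mem L
  refine ⟨G₁, inferInstance, inferInstance, ?_, hle, F, hF, hFt, hq, h3, ⟨?_⟩⟩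
  · rw [hG₁, Subgroup.index_comap_of_surjective _ (QuotientGroup.mk'_surjective _)]
    exact hLi
  · let π : G₁ →* L := ((QuotientGroup.mk' (oddCore X)).comp G₁.subtype).codRestrict L fun x => x.2
    have hπ : Function.Surjective π := fun y => by
      obtain ⟨x, hx⟩ := QuotientGroup.mk'_surjective (oddCore X) (y : X ⧸ oddCore X)
      exact ⟨⟨x, by rw [hG₁, Subgroup.mem_comap, hx]; exact y.2⟩, Subtype.ext hx⟩
    have hker : π.ker = (oddCore X).subgroupOf G₁ := by
      ext x
      rw [MonoidHom.mem_ker, Subgroup.mem_subgroupOf, ← QuotientGroup.eq_one_iff, ← Subtype.val_inj]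
      rfl
    exact ((QuotientGroup.quotientMulEquivOfEq hker).symm.trans
      (QuotientGroup.quotientKerEquivOfSurjective π hπ)).trans f

end CfsgLib.GWConseq
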